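import Cfsg.Agent.SP.NTh.D4.Abs_m3
import Cfsg.Agent.H979.LieSplit
import Cfsg.Agent.Mrg.ParSys.Fam.TwoFFour
import Cfsg.Agent.KFacts.TwF4.Full
import Cfsg.Agent.KFacts.TwF4.Torus
import Cfsg.Agent.KFacts.TwF4.CentZ
import Cfsg.Agent.S1113
import Cfsg.Agent.H248.TitsDich
import Cfsg.Agent.S2119
import Cfsg.Agent.SP.Iface_m3
import Cfsg.Agent.H912.KnownSplit
import Cfsg.Agent.S0253
import Cfsg.Agent.S0254
import Mathlib
import Cfsg.Agent.HN.AutHS
import Cfsg.Agent.Lib.PermNetOrbit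
import Cfsg.Agent.S1681
import Cfsg.Agent.S1694
import Cfsg.Agent.S2074
import Cfsg.Agent.SP.NegS.Gen
import Cfsg.Agent.BabyM.Instance
import Cfsg.Agent.BM.KHAll
import Cfsg.Agent.CpAut.TwoInnerB
import Cfsg.Agent.FastGrp
import Cfsg.Agent.Prune
set_option linter.all false
prune_inst 0x7f00000000000000000000000000000000000000000000000000000000000000000000000000000000000000000000000000000000000000000000000000000000000000000000000000000000000000003fffffffffffffffffffffffffffbeffbdffffffff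
open scoped Cfsg.Agent.FastGrp

-- part: SP/Lie/Chev
section
/-!
# S5755, condition (i) for the sixteen families of Lie type
-/

set_option autoImplicit false

namespace Cfsg.Agent.SP.Lie

open Subgroup Cfsg

/-- **condition (i) of S5755 for the simple groups of Lie type** -/
theorem pair_of_lie {T : Type*} [Group T] [Finite T] [IsSimpleGroup T] (hT : ¬ IsMulCommutative T) {p : ℕ}
    (hp : p.Prime) (h : IsLieTypeChar p T) :
    ∃ A B : Subgroup T, A ≠ ⊤ ∧ B < A ∧ (B.subgroupOf A).Normal ∧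
      ∀ τ : MulAut T, B ⊔ (A ⊓ A.map τ.toMonoidHom) = A :=
  haveI : Fact p.Prime := ⟨hp⟩
  pair_of_hasSplit hT (H979.LieSplit.hasSplit_of_isLieTypeChar hp h)

end Cfsg.Agent.SP.Lie
end

-- part: SP/Lie/TitsBN
section
/-!
# The split (B,N)-pair of `²F₄(q)` and its root groups, with the exponent of `B ∩ N`

A variant of `H743.AH.TwF.exists_bn`.
-/

set_option autoImplicit false
set_option linter.unusedSectionVars false
set_option linter.style.haveILetI false

namespace Cfsg.Agent.SP.Lie.TitsBN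

open Cfsg.Lie
open Cfsg.Agent.ChevalleyStructure.TwF4.Tables
open Cfsg.Agent.ChevalleyStructure.TwF4.Rel
open Cfsg.Agent.ChevalleyStructure.TwF4.Groups Cfsg.Agent.ChevalleyStructure.TwF4.RankOne
open Cfsg.Agent.ChevalleyStructure.TwF4.Twisted Cfsg.Agent.ChevalleyStructure.TwF4.TwistedFix
open Cfsg.Agent.ChevalleyStructure.TwF4.BN
open Cfsg.Agent.ChevalleyStructure.TwF4.Torus (T T_conj_X chi_def)
open Cfsg.Agent.ChevalleyStructure.F4NTab (ca)
open Cfsg.Agent.ChevalleyStructure.TwF4.TwGen (tc tc_mul chi_tc_24 chi_tc_25 chi_tc_33 chi_tc_27 chi28 chi30 pow_all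
  n1_eq n2_eq n1_conj_T n2_conj_T)
open Cfsg.Agent.ChevalleyStructure.TwF4.TorusFix (mem_iff pow_unit T_rt rt)
open Cfsg.Agent.ChevalleyStructure.TwF4.Fix (Fix)
open Cfsg.Agent.ChevalleyStructure.TwF4.OrderCls (X_inj)
open Cfsg.Agent.Schreier.TwFFour
open Cfsg.Agent.Octagon.KSys Cfsg.Agent.Octagon.KPar Cfsg.Agent.Octagon.KRoot Cfsg.Agent.Octagon.Pkg
open Cfsg.Agent.ParSys.Fam.TwoFFour
open Cfsg.Agent.SplitTwo Cfsg.Agent.SplitTwo.ZS Cfsg.Agent.SplitTwo.RootSysZ
open Cfsg.Agent.KFacts.TwF4 (Full)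

variable {K : Type*} [Field K] [Fintype K] {m : ℕ}

theorem exists_bn (hK : Fintype.card K = 2 ^ (2 * m + 1)) :
    haveI : CharP K 2 := charP_two hK
    ∃ (φ : K →+* K) (S : Full φ ↥(twistedF4 K (2 ^ m))) (P : Cfsg.BNPair ↥(twistedF4 K (2 ^ m))), S.R.p = 2 ∧
      FixBN.Split P 2 (J S.XZ 1 8) ∧ P.S = {S.n1, S.n2} ∧
        ∀ h ∈ P.B, h ∈ P.N → h ^ (2 ^ (2 * m + 1) - 1) = 1 := by
  haveI : CharP K 2 := charP_two hK
  haveI : Fact (Nat.Prime 2) := ⟨Nat.prime_two⟩
  obtain ⟨φ, hφ⟩ := exists_rln hK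
  obtain ⟨P, hPB, hPN, -, hPS⟩ := Cfsg.Agent.ChevalleyStructure.TwF4.BNIrred.exists_bnPair_irreducible hφ
  have hB : P.B = B0 K (2 ^ m) := hPB
  have hdec := dec hK hφ
  have hUp := isPGroup_U0 hK
  have node_1 : Cfsg.Agent.Schreier.BNSch.Node P (U0 K (2 ^ m)) (m1 K (2 ^ m)) (V1 K (2 ^ m)) := node1 hφ hB
  have node_2 : Cfsg.Agent.Schreier.BNSch.Node P (U0 K (2 ^ m)) (m2 hφ) (V8 K (2 ^ m)) := node2 hφ hB
  have hdB : ∀ b ∈ P.B, ∃ s t : Kˣ, ∃ u ∈ U0 K (2 ^ m), b = u * tt hdec s t := by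
    intro b hb
    rw [hB] at hb
    obtain ⟨s, t, u, hu, hbu⟩ := hdec.1 b hb
    exact ⟨s, t, u, hu, Subtype.ext hbu⟩
  have httN : ∀ s t : Kˣ, tt hdec s t ∈ P.N := fun s t => by
    rw [hPN]
    exact Cfsg.Agent.ChevalleyStructure.TwF4.NStruct.T_mem_N _
  have hH : ∀ h ∈ P.B, h ∈ P.N → ∃ s t : Kˣ, h = tt hdec s t := by
    intro h hh hN
    rw [hPB, Subgroup.mem_subgroupOf] at hh
    rw [hPN, Subgroup.mem_subgroupOf] at hN
    have h1 := borel_inf_N ⟨hh, hN⟩
    obtain ⟨s, t, hst⟩ := (mem_iff hK (h : GL chevF4.Idx K)).1 ⟨h1, h.2⟩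
    exact ⟨s, t, Subtype.ext hst⟩
  have hUB : U0 K (2 ^ m) ≤ P.B := by rw [hB]; exact U0_le_B0
  have hnorm : ∀ b ∈ P.B, ∀ u ∈ U0 K (2 ^ m), b * u * b⁻¹ ∈ U0 K (2 ^ m) := fun b hb u hu => by
    rw [hB] at hb
    exact conj_U0 hb hu
  have hU : U0 K (2 ^ m) = J (Cfsg.Agent.KFacts.TwF4.Inst.full hK hφ).XZ 1 8 := by
    rw [Cfsg.Agent.KFacts.TwF4.Inst.U0_eq hφ]
    apply le_antisymm
    · refine iSup₂_le fun k hk => ?_
      have h1 : (Cfsg.Agent.KFacts.TwF4.Inst.full hK hφ).XZ (k : ℤ) ≤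
        J (Cfsg.Agent.KFacts.TwF4.Inst.full hK hφ).XZ 1 8 := X_le_J (by exact_mod_cast hk.1) (by exact_mod_cast hk.2)
      refine le_trans (le_of_eq ?_) h1
      show (Cfsg.Agent.KFacts.TwF4.Inst.full hK hφ).R.X ((k : ℕ) : ZMod (2 * 8)) =
        (Cfsg.Agent.KFacts.TwF4.Inst.full hK hφ).R.X (((k : ℕ) : ℤ) : ZMod (2 * 8))
      rw [Int.cast_natCast]
    · refine J_le fun k h1 h2 => ?_
      obtain ⟨n, rfl⟩ := Int.eq_ofNat_of_zero_le (show 0 ≤ k by omega)
      have h3 := le_iSup₂ (f := fun (k : ℕ) (_ : k ∈ Set.Icc (1 : ℕ) 8) =>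
        Cfsg.Agent.Octagon.KSys.XX K (2 ^ m) ((k : ℕ) : ZMod (2 * 8))) n ⟨by exact_mod_cast h1, by exact_mod_cast h2⟩
      refine le_trans (le_of_eq ?_) h3
      show (Cfsg.Agent.KFacts.TwF4.Inst.full hK hφ).R.X (((n : ℕ) : ℤ) : ZMod (2 * 8)) =
        (Cfsg.Agent.KFacts.TwF4.Inst.full hK hφ).R.X ((n : ℕ) : ZMod (2 * 8))
      rw [Int.cast_natCast]
  have htor : ∀ h ∈ P.B, h ∈ P.N → h ^ (2 ^ (2 * m + 1) - 1) = 1 := fun h hh hN => by
    obtain ⟨s, t, rfl⟩ := hH h hh hN
    apply Subtype.ext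
    show T (tc (2 ^ m) s t) ^ (2 ^ (2 * m + 1) - 1) = 1
    rw [← map_pow]
    have h2 : tc (2 ^ m) s t ^ (2 ^ (2 * m + 1) - 1) = 1 := by
      have h3 : ∀ x : Kˣ, x ^ (2 ^ (2 * m + 1) - 1) = 1 := by
        intro x
        have h4 := pow_card_eq_one' (x := x)
        rwa [Nat.card_units, Nat.card_eq_fintype_card, hK] at h4
      funext l
      rw [Pi.pow_apply, h3]; rfl
    rw [h2, map_one]
  refine ⟨φ, Cfsg.Agent.KFacts.TwF4.Inst.full hK hφ, P, rfl, ?_, hPS, htor⟩
  · rw [← hU]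
    exact
      { le := hUB
        norm := hnorm
        isP := hUp
        cover := fun b hb => by
          obtain ⟨s, t, u, hu, rfl⟩ := hdB b hb
          refine ⟨u, hu, ?_⟩
          rw [inv_mul_cancel_left]
          exact httN s t
        tor := ⟨2 ^ (2 * m + 1) - 1, by
          have h1 : 2 ∣ 2 ^ (2 * m + 1) := dvd_pow_self 2 (by omega)
          have h2 : 0 < 2 ^ (2 * m + 1) := by positivity
          omega, htor⟩
        node := by
          intro s hs
          rw [hPS] at hs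
          rcases hs with rfl | hs
          · exact ⟨_, node_1⟩
          · rw [Set.mem_singleton_iff] at hs
            subst hs
            exact ⟨_, node_2⟩
        core := by
          rw [hPB, ← Subgroup.inf_subgroupOf_right]
          exact Cfsg.Agent.S1113.result hK }

end Cfsg.Agent.SP.Lie.TitsBN
end

-- part: SP/Lie/Tits
section
/-!
# S5755, condition (i) for the Tits group

`A` is the intersection of the Tits group with the parabolic subgroup of `²F₄(2)` of type `L₂(2)`.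
-/

set_option autoImplicit false

namespace Cfsg.Agent.SP.Lie

open Subgroup Cfsg Cfsg.Agent.FixBN Cfsg.Agent.Schreier.BNSch
open Cfsg.Agent.LieExceptional

section normal

variable {K : Type*} [Group K] [Finite K] {p : ℕ} [hp : Fact p.Prime]

/-- a Sylow subgroup meets a normal subgroup in a Sylow subgroup -/
theorem exists_sylow_inf (S : Sylow p K) (T : Subgroup K) [T.Normal] :
    ∃ Q : Sylow p T, (Q : Subgroup T) = (S : Subgroup K).subgroupOf T := by
  obtain ⟨Q0⟩ : Nonempty (Sylow p T) := inferInstance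
  obtain ⟨R, hR⟩ := Sylow.exists_comap_subtype_eq Q0
  obtain ⟨g, hg⟩ := MulAction.exists_smul_eq K R S
  refine ⟨(MulAut.conjNormal g : MulAut T) • Q0, ?_⟩
  rw [Sylow.pointwise_smul_def, ← hR, ← hg]
  ext x
  rw [mem_pointwise_smul_iff_inv_smul_mem, mem_subgroupOf, Sylow.coe_subgroup_smul,
    mem_pointwise_smul_iff_inv_smul_mem, mem_comap]
  simp only [← map_inv, _root_.MulAut.smul_def, _root_.Subgroup.subtype_apply, _root_.MulAut.conjNormal_apply, _root_.inv_inv, _root_.MulAut.conj_apply]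

/-- the case `B = U` for a normal subgroup containing a suitable root element -/
theorem pair_of_normal {P : BNPair K} (h : Split P p P.B) (T : Subgroup K) [T.Normal] [IsSimpleGroup T]
    (hT : ¬ IsMulCommutative T) {s x : K} (hs : s ∈ P.S) (hxB : x ∈ P.B) (hxT : x ∈ T)
    (hgen : ∀ M : Subgroup K, (∀ u ∈ P.B, s⁻¹ * u * s ∈ P.B → u ∈ M) → x ∈ M → P.B ≤ M)
    (hN : ∀ n ∈ P.N, n⁻¹ * x * n ∈ P.B ∨ n⁻¹ * (s * x * s⁻¹) * n ∈ P.B) :
    ∃ A B : Subgroup T, A ≠ ⊤ ∧ B < A ∧ (B.subgroupOf A).Normal ∧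
      ∀ τ : MulAut T, B ⊔ (A ⊓ A.map τ.toMonoidHom) = A := by
  obtain ⟨V, hV⟩ := h.node s hs
  obtain ⟨u, hu, huV⟩ := hV.ne
  obtain ⟨M, hVM, hMn, hMi⟩ := exists_hom_of_isPGroup h.isP (V := V.subgroupOf P.B) (by
    intro ht
    have : (⟨u, hu⟩ : P.B) ∈ V.subgroupOf P.B := ht ▸ mem_top _
    exact huV this)
  have hC : Nat.card (P.B ⧸ M) = p := hMi
  have hcyc : IsCyclic (P.B ⧸ M) := isCyclic_of_prime_card hC
  let _ : CommGroup (P.B ⧸ M) := IsCyclic.commGroup
  obtain ⟨f, hf⟩ := exists_hom hs hV (QuotientGroup.mk' M) (fun v hv => (QuotientGroup.eq_one_iff v).2 (hVM hv))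
  have hx : (⟨x, hxB⟩ : P.B) ∉ M := by
    intro hx
    have h1 := hgen (M.map P.B.subtype) (fun u hu h1 => ⟨⟨u, hu⟩, hVM (hV.stab u hu h1), rfl⟩) ⟨_, hx, rfl⟩
    have : M = ⊤ := eq_top_iff.2 fun y _ => by
      obtain ⟨z, hz, hzy⟩ := h1 y.2
      rwa [← Subtype.ext hzy]
    rw [this, index_top] at hMi
    exact hp.1.one_lt.ne hMi
  have hfx : f ⟨x, B_le_parabolic P _ hxB⟩ ≠ 1 := by
    rw [hf x hxB]
    exact fun h1 => hx ((QuotientGroup.eq_one_iff _).1 h1)
  have conj : ∀ c y : P.parabolic {s}, f (c * y * c⁻¹) = f y := by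
    intro c y
    rw [map_mul, map_mul, map_inv, mul_inv_cancel_comm]
  let ι : (P.parabolic {s}).subgroupOf T →* P.parabolic {s} :=
    (T.subtype.comp (Subgroup.subtype _)).codRestrict _ fun a => a.2
  refine pair_of_hom_prime (by rw [hC]; exact hp.1) (A := (P.parabolic {s}).subgroupOf T) ?_ (f.comp ι) fun τ => ?_
  · intro ht
    let g : T →* P.B ⧸ M := (f.comp ι).comp ((MonoidHom.id T).codRestrict _ fun x => ht ▸ mem_top x)
    rcases g.normal_ker.eq_bot_or_eq_top with h1 | h1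
    · have hinj : Function.Injective g := (MonoidHom.ker_eq_bot_iff g).1 h1
      exact hT ⟨⟨fun a b => hinj (by rw [map_mul, map_mul, mul_comm])⟩⟩
    · have : (⟨x, hxT⟩ : T) ∈ g.ker := h1 ▸ mem_top _
      exact hfx this
  · obtain ⟨S, hS⟩ := H405.OutNode.exists_sylow h
    obtain ⟨Q, hQ⟩ := exists_sylow_inf S T
    obtain ⟨g, hg⟩ := exists_conj_of_aut Q τ
    rw [hQ, hS] at hg
    obtain ⟨n, hn, hC⟩ := BNPairCore.bruhat (P := P) (g : K)
    obtain ⟨b, hb, b', hb', he⟩ := BNPairCore.mem_C.1 hC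
    have key : ∀ d : P.parabolic {s}, (d : K) ∈ T → n⁻¹ * d * n ∈ P.B → f d ≠ 1 →
        ∃ d : (P.parabolic {s}).subgroupOf T, (d : T) ∈ ((P.parabolic {s}).subgroupOf T).map τ.toMonoidHom ∧
          (f.comp ι) d ≠ 1 := by
      intro d hd h1 h2
      have h3 : b * d * b⁻¹ ∈ T := ‹T.Normal›.conj_mem _ hd b
      have h4 : b * d * b⁻¹ ∈ P.parabolic {s} :=
        mul_mem (mul_mem (B_le_parabolic P _ hb) d.2) (inv_mem (B_le_parabolic P _ hb))
      refine ⟨⟨⟨_, h3⟩, h4⟩, ?_, ?_⟩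
      · have h5 : g⁻¹ * ⟨_, h3⟩ * g ∈ P.B.subgroupOf T := by
          show (g : K)⁻¹ * (b * d * b⁻¹) * g ∈ P.B
          have : (g : K)⁻¹ * (b * d * b⁻¹) * g = b'⁻¹ * (n⁻¹ * d * n) * b' := by rw [he]; group
          rw [this]
          exact mul_mem (mul_mem (inv_mem hb') h1) hb'
        have h6 := hg _ h5
        have h7 : g * (g⁻¹ * ⟨_, h3⟩ * g) * g⁻¹ = ⟨_, h3⟩ := by group
        rw [h7] at h6
        exact map_mono (comap_mono (B_le_parabolic P _)) h6
      · have := conj ⟨b, B_le_parabolic P _ hb⟩ d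
        rw [← this] at h2
        exact h2
    rcases hN n hn with h1 | h1
    · exact key ⟨x, B_le_parabolic P _ hxB⟩ hxT h1 hfx
    · refine key (@HMul.hMul _ _ _ instHMul (@HMul.hMul _ _ _ instHMul ⟨s, mem_parabolic_self P s⟩ ⟨x, B_le_parabolic P _ hxB⟩) ⟨s, mem_parabolic_self P s⟩⁻¹)
        (‹T.Normal›.conj_mem _ hxT s) h1 ?_
      rwa [conj]

end normal

section full

open Cfsg.Agent.KFacts.TwF4 Cfsg.Agent.KFacts.TwF4.Full Cfsg.Agent.KFacts.TwF4.Arc
open Cfsg.Agent.SplitTwo Cfsg.Agent.SplitTwo.ZS Cfsg.Agent.H248.TwF4Over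

variable {F : Type*} [Field F] {σ : F →+* F} {G : Type*} [Group G] (S : Full σ G)

theorem closure_o {n : G} (hn : n ∈ _root_.Subgroup.closure ({S.n1, S.n2} : Set G)) :
    ∃ a : ZMod 8, n⁻¹ * S.o 0 1 * n = S.o a 1 ∧ n⁻¹ * S.o 4 1 * n = S.o (a + 4) 1 := by
  have i1 : S.n1⁻¹ = S.n1 := inv_eq_of_mul_eq_one_right S.n1_sq
  have i2 : S.n2⁻¹ = S.n2 := inv_eq_of_mul_eq_one_right S.n2_sq
  have key : ∀ x : G, ∀ y ∈ ({S.n1, S.n2} : Set G),
      (∃ a : ZMod 8, x⁻¹ * S.o 0 1 * x = S.o a 1 ∧ x⁻¹ * S.o 4 1 * x = S.o (a + 4) 1) →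
      ∃ a : ZMod 8, (x * y)⁻¹ * S.o 0 1 * (x * y) = S.o a 1 ∧ (x * y)⁻¹ * S.o 4 1 * (x * y) = S.o (a + 4) 1 := by
    rintro x y hy ⟨a, h1, h2⟩
    have e : ∀ z, (x * y)⁻¹ * z * (x * y) = y⁻¹ * (x⁻¹ * z * x) * y⁻¹⁻¹ := fun z => by group
    rw [e, e, h1, h2]
    rcases hy with rfl | rfl
    · refine ⟨4 - a, ?_, ?_⟩
      · rw [i1, S.n1_o]
      · rw [i1, S.n1_o]
        congr 1
        clear h1 h2; revert a; decide
    · refine ⟨3 - a, ?_, ?_⟩
      · rw [i2, S.n2_o]
      · rw [i2, S.n2_o]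
        congr 1
        clear h1 h2; revert a; decide
  induction hn using closure_induction_right with
  | one => exact ⟨0, by simp, by simp⟩
  | mul_right x _ y hy ih => exact key x y hy ih
  | mul_inv_cancel x _ y hy ih =>
    have : y⁻¹ = y := by
      rcases hy with rfl | rfl
      exacts [i1, i2]
    rw [this]
    exact key x y hy ih

theorem o_mem_or (a : ZMod 8) : S.o a 1 ∈ J S.XZ 1 8 ∨ S.o (a + 4) 1 ∈ J S.XZ 1 8 := by
  have h0 : S.o 0 1 ∈ J S.XZ 1 8 := mem_J ((mem_X1 S).2 ⟨1, rfl⟩) (by norm_num) (by norm_num)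
  have h1 : S.o 1 1 ∈ J S.XZ 1 8 := mem_J ((mem_X3 S).2 ⟨1, rfl⟩) (by norm_num) (by norm_num)
  have h2 : S.o 2 1 ∈ J S.XZ 1 8 := mem_J ((mem_X5 S).2 ⟨1, rfl⟩) (by norm_num) (by norm_num)
  have h3 : S.o 3 1 ∈ J S.XZ 1 8 := mem_J ((mem_X7 S).2 ⟨1, rfl⟩) (by norm_num) (by norm_num)
  have key : ∀ a : ZMod 8, (a = 0 ∨ a = 1 ∨ a = 2 ∨ a = 3) ∨ (a + 4 = 0 ∨ a + 4 = 1 ∨ a + 4 = 2 ∨ a + 4 = 3) := by
    decide
  rcases key a with (h | h | h | h) | (h | h | h | h) <;> rw [h]
  exacts [Or.inl h0, Or.inl h1, Or.inl h2, Or.inl h3, Or.inr h0, Or.inr h1, Or.inr h2, Or.inr h3]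

theorem n1_conj_J {v : G} (hv : v ∈ J S.XZ 2 8) : S.n1⁻¹ * v * S.n1 ∈ J S.XZ 1 8 := by
  have i1 : S.n1⁻¹ = S.n1 := inv_eq_of_mul_eq_one_right S.n1_sq
  have h1 : J S.XZ 2 8 ≤ (J S.XZ 1 8).comap (MulAut.conj S.n1).toMonoidHom := by
    refine J_le fun k h1 h2 x hx => ?_
    show S.n1 * x * S.n1⁻¹ ∈ J S.XZ 1 8
    exact mem_J (k := 10 - k) ((S.n1_refl k x).1 hx) (by omega) (by omega)
  have h2 : S.n1 * v * S.n1⁻¹ ∈ J S.XZ 1 8 := h1 hv
  rw [i1] at h2 ⊢
  exact h2

theorem pair_of_full [Finite G] {P : BNPair G} (h : Split P 2 (J S.XZ 1 8)) (hPS : P.S = {S.n1, S.n2})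
    (htor : ∀ x ∈ P.B, x ∈ P.N → x = 1) (T : Subgroup G) [T.Normal] [IsSimpleGroup T] (hT : ¬ IsMulCommutative T)
    (h2 : Two F T) :
    ∃ A B : Subgroup T, A ≠ ⊤ ∧ B < A ∧ (B.subgroupOf A).Normal ∧
      ∀ τ : MulAut T, B ⊔ (A ⊓ A.map τ.toMonoidHom) = A := by
  have : Fact (Nat.Prime 2) := ⟨Nat.prime_two⟩
  have hB : J S.XZ 1 8 = P.B := by
    refine le_antisymm h.le fun b hb => ?_
    obtain ⟨u, hu, h1⟩ := h.cover b hb
    have h3 := htor _ (mul_mem (inv_mem (h.le hu)) hb) h1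
    rwa [← inv_mul_eq_one.1 h3]
  have hN : P.N = _root_.Subgroup.closure {S.n1, S.n2} := by
    rw [← P.closure_sup, hPS]
    refine le_antisymm (sup_le le_rfl fun x hx => ?_) le_sup_left
    rw [htor x hx.1 hx.2]
    exact one_mem _
  refine pair_of_normal (p := 2) (hB ▸ h) T hT (s := S.n1) (x := S.o 0 1) (by rw [hPS]; exact Set.mem_insert _ _)
    (hB ▸ mem_J ((mem_X1 S).2 ⟨1, rfl⟩) (by norm_num) (by norm_num)) (two_o_mem S h2 0 1) ?_ ?_
  · intro M hM hx u hu
    rw [← hB] at hu hM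
    obtain ⟨y, hy, v, hv, rfl⟩ := S.zsys8.split_ll (a := 1) (b := 8) (by norm_num) (by norm_num) hu
    refine mul_mem ?_ (hM v (J_mono (by norm_num) le_rfl hv) (n1_conj_J S hv))
    obtain ⟨t, rfl⟩ := (mem_X1 S).1 hy
    rcases h2.two t with rfl | rfl
    · rw [S.o_zero]; exact one_mem _
    · exact hx
  · intro n hn
    rw [hN] at hn
    obtain ⟨a, h3, h4⟩ := closure_o S hn
    rw [S.n1_o, sub_zero, h3, h4, ← hB]
    exact o_mem_or S a

end full

/-- **condition (i) of S5755 for the Tits group** -/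
theorem pair_tits : ∃ A B : Subgroup Cfsg.Lie.TitsGroup, A ≠ ⊤ ∧ B < A ∧ (B.subgroupOf A).Normal ∧
    ∀ τ : MulAut Cfsg.Lie.TitsGroup, B ⊔ (A ⊓ A.map τ.toMonoidHom) = A := by
  obtain ⟨hidx, hsimp, hna, hcard⟩ := Cfsg.Agent.S1074.result
  obtain ⟨φ, S, P, -, h1, h2, h3⟩ := TitsBN.exists_bn (K := ZMod 2) (m := 0) (by simp)
  have : Finite ↥(Cfsg.Lie.twistedF4 (ZMod 2) (2 ^ 0)) := inferInstance
  have : IsSimpleGroup ↥(_root_.commutator ↥(Cfsg.Lie.twistedF4 (ZMod 2) (2 ^ 0))) := hsimp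
  refine pair_of_full S h1 h2 (fun x hx hx' => by simpa only [_root_.Nat.pow_zero, _root_.MulZeroClass.mul_zero, _root_.zero_add, _root_.pow_one, _root_.Nat.add_one_sub_one] using h3 x hx hx')
    (commutator ↥(Cfsg.Lie.twistedF4 (ZMod 2) (2 ^ 0))) ?_ ⟨by decide, le_rfl, fun ht => ?_⟩
  · exact hna
  · have h4 : (commutator ↥(Cfsg.Lie.twistedF4 (ZMod 2) (2 ^ 0))).index = 2 := hidx
    rw [ht, index_top] at h4
    exact absurd h4 (by norm_num)

end Cfsg.Agent.SP.Lie
end

-- part: SP/Alt/Alt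
section
/-!
# S5755, condition (i) for the alternating groups of degree at least seven

`A` is the stabiliser of a three-element set, `B` consists of the elements of `A` that are even on it.
-/

set_option autoImplicit false

namespace Cfsg.Agent.SP.Alt

open Subgroup Equiv Equiv.Perm

variable {α : Type*} [Fintype α] [DecidableEq α]

/-- the even permutations preserving `p` -/
def stab (p : α → Prop) : Subgroup (alternatingGroup α) where
  carrier := {g | ∀ x, p ((g : Perm α) x) ↔ p x}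
  one_mem' := fun _ => Iff.rfl
  mul_mem' := fun {a b} ha hb x => (ha _).trans (hb x)
  inv_mem' := fun {a} ha x => by
    have := ha ((a : Perm α)⁻¹ x)
    simpa using this.symm

/-- the sign on the points with `p` -/
def sgn (p : α → Prop) [DecidablePred p] : stab p →* ℤˣ where
  toFun g := sign (((g : alternatingGroup α) : Perm α).subtypePerm g.2)
  map_one' := by
    have : (((1 : stab p) : alternatingGroup α) : Perm α).subtypePerm (1 : stab p).2 = 1 := by
      ext x; rfl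
    rw [this, map_one]
  map_mul' a b := by
    rw [← map_mul]
    congr 1

omit [Fintype α] in
theorem swap_pres {q : α → Prop} {a b : α} (h : q a ↔ q b) (x : α) : q (swap a b x) ↔ q x := by
  rw [swap_apply_def]
  split_ifs with h1 h2
  · rw [h1, h]
  · rw [h2, h]
  · rfl

theorem exists_elt (p q : α → Prop) [DecidablePred p] {a b c d : α} (hab : a ≠ b) (hcd : c ≠ d) (ha : p a) (hb : p b)
    (hc : ¬ p c) (hd : ¬ p d) (h1 : q a ↔ q b) (h2 : q c ↔ q d) :
    ∃ g : stab p, (g : alternatingGroup α) ∈ stab q ∧ sgn p g ≠ 1 := by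
  have hm : swap a b * swap c d ∈ alternatingGroup α := by
    rw [mem_alternatingGroup, map_mul, sign_swap hab, sign_swap hcd]; rfl
  have hp : (⟨_, hm⟩ : alternatingGroup α) ∈ stab p := fun x =>
    (swap_pres (q := p) (iff_of_true ha hb) _).trans (swap_pres (q := p) (iff_of_false hc hd) x)
  refine ⟨⟨_, hp⟩, fun x => (swap_pres h1 _).trans (swap_pres h2 x), ?_⟩
  have : (swap a b * swap c d).subtypePerm hp = swap (⟨a, ha⟩ : {x // p x}) ⟨b, hb⟩ := by
    ext ⟨x, hx⟩
    have hxc : x ≠ c := fun h => hc (h ▸ hx)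
    have hxd : x ≠ d := fun h => hd (h ▸ hx)
    show swap a b (swap c d x) = _
    rw [swap_apply_of_ne_of_ne hxc hxd, swap_apply_def, swap_apply_def]
    simp only [Subtype.mk.injEq]
    split_ifs <;> rfl
  show sign ((swap a b * swap c d).subtypePerm hp) ≠ 1
  rw [this, sign_swap (fun h => hab (congrArg Subtype.val h))]
  decide

omit [Fintype α] [DecidableEq α] in
theorem pigeon (q : α → Prop) {a b c : α} (hab : a ≠ b) (hac : a ≠ c) (hbc : b ≠ c) (p : α → Prop) (ha : p a)
    (hb : p b) (hc : p c) : ∃ x y, x ≠ y ∧ p x ∧ p y ∧ (q x ↔ q y) := by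
  by_cases h1 : q a ↔ q b
  · exact ⟨a, b, hab, ha, hb, h1⟩
  by_cases h2 : q a ↔ q c
  · exact ⟨a, c, hac, ha, hc, h2⟩
  exact ⟨b, c, hbc, hb, hc, by (clear * - h1 h2; tauto)⟩

/-- **condition (i) of S5755 for `A_n`, `n ≥ 7`** -/
theorem pair_alt {n : ℕ} (hn : 7 ≤ n) :
    ∃ A B : Subgroup (alternatingGroup (Fin n)), A ≠ ⊤ ∧ B < A ∧ (B.subgroupOf A).Normal ∧
      ∀ τ : MulAut (alternatingGroup (Fin n)), B ⊔ (A ⊓ A.map τ.toMonoidHom) = A := by
  let p : Fin n → Prop := fun x => x.val < 3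
  have ne : ∀ (i j : ℕ) (hi : i < n) (hj : j < n), i ≠ j → (⟨i, hi⟩ : Fin n) ≠ ⟨j, hj⟩ :=
    fun i j hi hj h h' => h (congrArg Fin.val h')
  have hC : (Nat.card ℤˣ).Prime := by
    rw [Nat.card_eq_fintype_card, Fintype.card_units_int]; exact Nat.prime_two
  refine Lie.pair_of_hom_prime hC (A := stab p) ?_ (sgn p) fun τ => ?_
  · intro h
    have hm : swap (⟨0, by omega⟩ : Fin n) ⟨3, by omega⟩ * swap ⟨4, by omega⟩ ⟨5, by omega⟩ ∈
        alternatingGroup (Fin n) := by
      rw [mem_alternatingGroup, map_mul, sign_swap (ne _ _ _ _ (by omega)), sign_swap (ne _ _ _ _ (by omega))]; rfl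
    have h1 : (⟨_, hm⟩ : alternatingGroup (Fin n)) ∈ stab p := h ▸ mem_top _
    have h2 := h1 ⟨0, by omega⟩
    have h3 : (swap (⟨0, by omega⟩ : Fin n) ⟨3, by omega⟩ * swap (⟨4, by omega⟩ : Fin n) ⟨5, by omega⟩ : Perm (Fin n))
        (⟨0, by omega⟩ : Fin n) = (⟨3, by omega⟩ : Fin n) := by
      rw [Perm.mul_apply, swap_apply_of_ne_of_ne (ne 0 4 _ _ (by omega)) (ne 0 5 _ _ (by omega)), swap_apply_left]
    simp only [h3, p] at h2
    omega
  · obtain ⟨σ, rfl⟩ := (S2119.result n (by omega) (by omega)).2 τ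
    let q : Fin n → Prop := fun x => p (σ⁻¹ x)
    obtain ⟨a, b, hab, ha, hb, h1⟩ := pigeon q (ne 0 1 (by omega) (by omega) (by omega))
      (ne 0 2 (by omega) (by omega) (by omega)) (ne 1 2 (by omega) (by omega) (by omega)) p
      (show 0 < 3 by omega) (show 1 < 3 by omega) (show 2 < 3 by omega)
    obtain ⟨c, d, hcd, hc, hd, h2⟩ := pigeon q (ne 3 4 (by omega) (by omega) (by omega))
      (ne 3 5 (by omega) (by omega) (by omega)) (ne 4 5 (by omega) (by omega) (by omega)) (fun x => ¬ p x)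
      (show ¬ 3 < 3 by omega) (show ¬ 4 < 3 by omega) (show ¬ 5 < 3 by omega)
    obtain ⟨g, hg, hs⟩ := exists_elt p q hab hcd ha hb hc hd h1 h2
    refine ⟨g, ⟨(MulAut.conjNormal σ).symm g, fun x => ?_, by simp⟩, hs⟩
    have h3 := hg (σ x)
    simpa only [q, _root_.MulAut.conjNormal_symm_apply, _root_.Equiv.Perm.coe_mul, _root_.Equiv.Perm.coe_inv, _root_.Function.comp_apply, _root_.Equiv.symm_apply_apply] using h3

end Cfsg.Agent.SP.Alt
end

-- part: SP/Lie/All
section
/-!
# S5755: the rows of the alternating groups, the groups of Lie type and the Tits group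
-/

set_option autoImplicit false

namespace Cfsg.Agent.SP

open Cfsg Cfsg.Agent.H912.Known

universe u

section

variable {T : Type u} [Group T] [Finite T] [IsSimpleGroup T]

theorem pairAut_of_lie (hT : ¬ IsMulCommutative T) {p : ℕ} (hp : p.Prime) (h : IsLieTypeChar p T) : PairAut T :=
  Lie.pair_of_lie hT hp h

theorem pairAut_of_psl (hT : ¬ IsMulCommutative T) (h : IsPSL T) : PairAut T := by
  obtain ⟨F, _, _, n, h1, h2, h3⟩ := h
  obtain ⟨p, hp, hF⟩ := exists_char F
  exact pairAut_of_lie hT hp (Or.inl ⟨F, _, _, hF, n, h1, h2, h3⟩)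

theorem pairAut_of_alt (hT : ¬ IsMulCommutative T) (h : IsAlternating T) : PairAut T := by
  obtain ⟨n, hn, ⟨e⟩⟩ := h
  rcases (by omega : n = 5 ∨ n = 6 ∨ 7 ≤ n) with rfl | rfl | h7
  · have : Fact (Nat.Prime 5) := ⟨by norm_num⟩
    obtain ⟨e'⟩ := S0253.psl_zmod5
    exact pairAut_of_psl hT ⟨ZMod 5, inferInstance, inferInstance, 2, le_rfl, fun _ => by rw [ZMod.card]; norm_num,
      ⟨e.trans e'.symm⟩⟩
  · let _ : Fintype (GaloisField 3 2) := Fintype.ofFinite _
    have h9 : Fintype.card (GaloisField 3 2) = 9 := by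
      rw [← Nat.card_eq_fintype_card, GaloisField.card 3 2 (by norm_num)]
      norm_num
    obtain ⟨e'⟩ := S0254.result h9
    exact pairAut_of_psl hT ⟨GaloisField 3 2, inferInstance, inferInstance, 2, le_rfl, fun _ => by rw [h9]; norm_num,
      ⟨e.trans e'.symm⟩⟩
  · exact PairAut.of_equiv (Alt.pair_alt h7) e.symm

theorem pairAut_of_exc (hT : ¬ IsMulCommutative T) {p : ℕ} (hp : p.Prime) (h : IsExceptionalChevChar p T) :
    PairAut T :=
  pairAut_of_lie hT hp (Or.inr (Or.inr (Or.inr (Or.inr (Or.inr (Or.inr (Or.inl h)))))))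

theorem pairAut_of_tw (hT : ¬ IsMulCommutative T) {p : ℕ} (hp : p.Prime) (h : IsTwistedE6D4Char p T) :
    PairAut T :=
  pairAut_of_lie hT hp (Or.inr (Or.inr (Or.inr (Or.inr (Or.inr (Or.inr (Or.inr (Or.inl h))))))))

end

theorem pairAut_tits : PairAut Cfsg.Lie.TitsGroup := Lie.pair_tits

/-- **the rows of the alternating groups, the sixteen families of Lie type and the Tits group** -/
theorem lieRows : LieRows.{u} where
  alt := fun _ _ _ _ hT h => pairAut_of_alt hT h
  psl := fun _ _ _ _ hT h => pairAut_of_psl hT h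
  psp := fun _ _ _ _ hT h => by
    obtain ⟨F, _, _, n, h1, h2, h3⟩ := h
    obtain ⟨p, hp, hF⟩ := exists_char F
    exact pairAut_of_lie hT hp (Or.inr (Or.inl ⟨F, _, _, hF, n, h1, h2, h3⟩))
  psu := fun _ _ _ _ hT h => by
    obtain ⟨F, _, _, n, q, h1, h2, h3, h5⟩ := h
    obtain ⟨p, hp, hF⟩ := exists_char F
    exact pairAut_of_lie hT hp (Or.inr (Or.inr (Or.inl ⟨F, _, _, hF, n, q, h1, h2, h3, h5⟩)))
  oodd := fun _ _ _ _ hT h => by
    obtain ⟨F, _, _, n, h1, h2, h3⟩ := h
    obtain ⟨p, hp, hF⟩ := exists_char F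
    exact pairAut_of_lie hT hp (Or.inr (Or.inr (Or.inr (Or.inl ⟨F, _, _, hF, n, h1, h2, h3⟩))))
  oplus := fun T _ _ _ hT h => by
    obtain ⟨F, iF, iT, n, h1, h3⟩ := h
    obtain ⟨p, hp, hF⟩ := exists_char F
    have key : IsPOmegaPlusChar p T := ⟨F, iF, iT, hF, n, h1, h3⟩
    exact pairAut_of_lie hT hp (Or.inr (Or.inr (Or.inr (Or.inr (Or.inl key)))))
  ominus := fun T _ _ _ hT h => by
    obtain ⟨F, iF, iT, n, a, b, h1, h2, h3⟩ := h
    obtain ⟨p, hp, hF⟩ := exists_char F
    have key : IsPOmegaMinusChar p T := ⟨F, iF, iT, hF, n, a, b, h1, h2, h3⟩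
    exact pairAut_of_lie hT hp (Or.inr (Or.inr (Or.inr (Or.inr (Or.inr (Or.inl key))))))
  g2 := fun _ _ _ _ hT h => by
    obtain ⟨F, iF, iT, h1, h2⟩ := h
    obtain ⟨p, hp, hF⟩ := exists_char F
    exact pairAut_of_exc hT hp ⟨F, iF, iT, hF, Or.inl ⟨h1, h2⟩⟩
  f4 := fun _ _ _ _ hT h => by
    obtain ⟨F, iF, iT, h⟩ := h
    obtain ⟨p, hp, hF⟩ := exists_char F
    exact pairAut_of_exc hT hp ⟨F, iF, iT, hF, Or.inr (Or.inl h)⟩
  e6 := fun _ _ _ _ hT h => by
    obtain ⟨F, iF, iT, h⟩ := h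
    obtain ⟨p, hp, hF⟩ := exists_char F
    exact pairAut_of_exc hT hp ⟨F, iF, iT, hF, Or.inr (Or.inr (Or.inl h))⟩
  e7 := fun _ _ _ _ hT h => by
    obtain ⟨F, iF, iT, h⟩ := h
    obtain ⟨p, hp, hF⟩ := exists_char F
    exact pairAut_of_exc hT hp ⟨F, iF, iT, hF, Or.inr (Or.inr (Or.inr (Or.inl h)))⟩
  e8 := fun _ _ _ _ hT h => by
    obtain ⟨F, iF, iT, h⟩ := h
    obtain ⟨p, hp, hF⟩ := exists_char F
    exact pairAut_of_exc hT hp ⟨F, iF, iT, hF, Or.inr (Or.inr (Or.inr (Or.inr h)))⟩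
  e6t := fun _ _ _ _ hT h => by
    obtain ⟨F, iF, iT, q, hq, h1, h2⟩ := h
    obtain ⟨p, hp, hF⟩ := exists_char F
    exact pairAut_of_tw hT hp ⟨F, iF, iT, hF, q, hq, Or.inl ⟨h1, h2⟩⟩
  d4t := fun _ _ _ _ hT h => by
    obtain ⟨F, iF, iT, q, hq, h1, h2⟩ := h
    obtain ⟨p, hp, hF⟩ := exists_char F
    exact pairAut_of_tw hT hp ⟨F, iF, iT, hF, q, hq, Or.inr ⟨h1, h2⟩⟩
  sz := fun _ _ _ _ hT h => pairAut_of_lie hT Nat.prime_two
    (Or.inr (Or.inr (Or.inr (Or.inr (Or.inr (Or.inr (Or.inr (Or.inr (Or.inl ⟨rfl, h⟩)))))))))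
  ree := fun _ _ _ _ hT h => pairAut_of_lie hT Nat.prime_three
    (Or.inr (Or.inr (Or.inr (Or.inr (Or.inr (Or.inr (Or.inr (Or.inr (Or.inr (Or.inr ⟨rfl, h⟩))))))))))
  f4t := fun _ _ _ _ hT h => pairAut_of_lie hT Nat.prime_two
    (Or.inr (Or.inr (Or.inr (Or.inr (Or.inr (Or.inr (Or.inr (Or.inr (Or.inr (Or.inl ⟨rfl, h⟩))))))))))
  tits := fun _ _ _ _ _ ⟨e⟩ => PairAut.of_equiv pairAut_tits e.symm

end Cfsg.Agent.SP
end

-- part: SP/Pos/A/HSData
section
/-!
# S5755, positive rows: data for `HS` (helper22)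

The 352 partitions of the 100 points into two Hoffman-Singleton graphs (one half of each, 100 bits), the action of the
generators on them, two elements of the stabiliser of the first partition, a spanning forest of their orbits.
-/

set_option autoImplicit false

namespace Cfsg.Agent.SP.HSData

/-- the halves -/
def WW : ℕ := 0xdd923b4e32bf1027f470a1ba149af0e0bc7006eaa95cfd550f49b67e4b003ded30f14f22b2b2ca26e09183b1ac3fdccf138ff95d2f2b20b963a2c40ee13c7a45971bfe0c063da4aa7a82f3e609d3dcc6c257a815cf9c439f3990f8d376b14a334ccd149518b2f881337fbc61386cfa8b181835c4fc440ffb84bf306779591f339fe3a42522344fb88b3307f2c1b73502e4b2e8cf90d72643745c48d29bc96f991d2dbfc41b96660dad3ac4d328d761f03eee5816b7262b944ef0139f4b866bf307d25136a44b09a7e6f156f6005ec51c6b870e62b2c60f9c1484bdbd079ef2a63951be2c4f7745ac3b327111d31e7d119cc66c3d0df72b1016398ec1d0a0a2d7fbe80a355e6b959ba66a50dafa0a3d06bd59835bfd06a3235ded20220d5fc87819a7c0fb12c2cbb9ce6e03d3e7fc0e4a321d4c1fb6846170f597eb84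2639cec2d942aed94346ba765e135e0c29b5cd9d883197e2f431b0f0a22b4ef6b691d9f31e92033e2407eccee608fb35947e50ccbd3a042ab4f6d191ba4e4b16597e21c2e8e79c57c2cab4b72595f20354cb9d25cf88d288a2bd7da1944cf498f5d6e265a4a952b03e6593598f59833c0f6178bda16d58959c7a748d0c4e88cdd9d1ea26c75b331e664d38bd9d21360879bd3dce8ac22335f2aab8c74d5585b073d8d046d2f64d4aaaee0794bd73c0823b7a8ebb41d5129b78b72e27313e842e3d06d97234df8398b634968d3f0eda1887f468e4f44cc7a39b4a731453979b70a8966b1f4477208f192f99870e0bb2353f222e54727bd796cac81692dad933c4e7051f9d4313d6ca8613066ef32e6b92ca342a5cc82d2ce5ba3dd72b1daa0287fb0c1c073ee0fdd870cbe622bb2956a6a9225f9ba368b76e2904b3e2ead10fd132bdbc19c80237fbda12c5c5649d317e2c47790c8c1f3ea2697538f48d3c08a8f5ba094ef6e699596eac404f87aaab947b5551919433d47494a9ba06dfb0f6d183d35c4806d3fae9c2b9472d979a30e854d2a94877dcad550f303ee84976d1fe691228f9971b42ac2d4de86160f1ee2fc5396e45b94862d3dbe8351d19639ee81d2a4a0bed5ac1d06dc72b41ba7c4f4548ecb9d1eb85943fc619bd2425a57046dcea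e42d18f72c233357aa6a2a355b6b16cf139a7614ac0de79a7896233cb262a538bf90477a20f9ba37877b89063b6a44f3c0ef803be7c11c4e6058dd9d6f900574fa408f94ff0485fb81de6a8771190af085e9acbda11c6afc9d3fce188a066d3f2cf4a30d552d0c83702fe0d0fbe84b319dbe38dc1198be2417bd26af5226bd5de824a7694da9936a7115d872ca70a0bf2105e4e3f84f972fe35cfc4820bdedb9940e6035b907afc52135e2e298ceeee0d19de20e421a1f1a07eef06778d19f318836358fc456aa8ef8c7f17f0e5a4690660fc68ae514f4ef8f0a023dfe8e9902ddd883f1593d9f616825936ccea00d7e6d174bc20f7a1db6a15102bb713e66dd4ca5a513724b3093b58b376b7017ea520694f9e8a3c7f856da025d6d11e2cd2688f307b64b54dc2a2cb4aabdd0d3c788d0cce6c5fdb9127114d390cb27b4b125b5a60f1edabaa10fc31084eb8698cf3eb15d69b0daa4289ce817ac3d2e9f598f5d7a33d64b8e0007f4ebad8837c28e3e54ccbd3a0516b9dd218cf352b28296624ecaa7ee2abd4ba667e16d7222bc271959a10da252c7c80cdd147be32ef2bf46cac5a72552f1b2e543053d703f2f5f5742062a35cf99431a193588de4a0f4df5aa2e037bdd83129ee2b435076e50b49af81be4e4b96056e3a92e76273909f27c8109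2fa8d3f8ef6229be4b27e5e103e041ffdc6a032b8c82f808b2b73aeb9c74f03b9b11a6f4d1cab12a3d4eae13d1d1f31cd64746a41f6af3064394ce33c1a43522acbeddd9508fb0b34e99167336436accf20bd4f82764c08bf99a1f55915b8bfc812f2f307b13a26d54917a50caa6627990e0aaa9de7dd783d9573f5a02b72322e45f222b9e7f846e40c8fc09fd2a34570bf003fc5c44f2b7a94d5a94179f27dc6f006d7e728020f5e439d9d33c2621bea0afcc32c53c359bf02a7e784e42e1223ddd23bd4903a7e88853864ea2ed7c7998346a58ca7b3a24a73567b9a649d098e2d07fc90e8cfc0dfb168ccc14c49ff914aea6655de75d13dee284451e36872863b4f89138fe3485da035cd9dc8783d954a7a14cedb80aa74e6d3f39946ad24f9f5a14208d59c7d9f90fa3074b62a2c0efc7485a788468db82d1d933ec47079ff3970e4c36b7942f361051739f0b8eca5356fa4bb1866d0531efd11b8822bb50c7f48ce128f1c62f0d04ad7bb416a793e8b92c6ce0a1e885ebda1a277873b66bc666f305dcd38330519f239ca8c2a3b25d7f200a64feda5b35d0f4b32595f20268c6b6d5cde89882e30c6c9f9ce6e450f5993398d67e3b0e37079918b1854a745ec8842b9bcef3243dba69943adb6c352ea12a5d96b11d0e234ffa851b22367139fb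1d9b2dac006bff425d06ae6929f478f0f660dce51d4a22ac96379173b4f60b8d524750aa9b63f6f906b6335e040f2e84dd487cfcd062aa2956baa86155578f7b5d27a529af81a2340f59693275871cd68c9d9d172a929ad3f5b80bcf7649541772e0a1d257c6726764896830e6f131d72b8683565e92561f282fd51e6b9f90d8b89e6a177a2144ef053dfc7cab62329f422e9426e9721c39b569c87a624ab94cfd409b7f6c82c06a9ddd0536087dd0f39770bc14e83d24672ab6b639b35356d408be95056e8a6e2dbf9f50ea3203de5166a066272f2ee146a1085bdbc06b8d5f68f267e66581a970a4bb68d7929b879a524eb29c5c2d96a0edbc3fc68e6b008bf2383cc4ef418f89835e0b80387fa0cdcee63cf6d6c2f4b48094b92f5cf2170f4c2ef25ac2946f28954fbc92b7c7d23bb62d16342620db98a7b47867f7184f03126ae72a6b1b648e46438df9ba90e305d7d166b352dc46d2d44d73899d82b196f0693cb042f022ecf7e49fb453395e72d2124f6eb0a92f1a6f0d8c0325fdc5d3aa46a639b0b34e67145ad62c4ba2cf761e478f9d846c362dbd0efa0039dfd113e622dfd12462310fea1197e6663089deb20c22b6fbc3342a665f58581f016fc8bd9c7dd48b94a62d97ba1c478a59c599479842e294ff2c0e326e779e6a8ce48165b5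ea995ccd550dcd9873afa0ad61b2d067a0ba3b851f9a120fbf3e0482eea2f149873c0fe124adba3d571073b3826ee41183f9f203d4e7a739fd40b9c468af91977c7220739f15d2d6f64c1e3ba4233017714bf71e42031ecc2cb58f4f60b0b975289a2b5fd60320d7aabb13ba46c51f4f9c2132e95fc91535f345e63d4ad2926191d8d3f35999c467cad4ad14aacd451c7d83d4e334f08bbb4f50169199931b87b32e14263ce6ea6b120777c5b4050ef586b8f2a27be4a946bfc440679a4bc79452fdc49b1b6e3c623aa0c779c4b15ca2b846735e9c2d3d709dd21f618f3dc32ff1521344cb88b159a70e4b4651ff20635917d2d6ca0f8896079fdd1794cb092f230f464dcc80dfa8178b5d75b4df6384a6295e85ff23121b2b22937c0d317a9ce93d8cd92d36668f4d4494e8d993dcf1c41b24a26c4d5c439adb7bf11173991927c4f307dbd316a7022bf13c68a9817b4b1ac33cecf949508a3d881c742fee819efde439911b53dfc6c0772042ebae8f1b01f663fb0b4272a0e06f83f339472c0968b1bbc36e18713df786dac236158efa80d0edd5472c62f840489adacdddaaed34ba4f86c2b30596adbcaa4e13c7095f390be3806aea94afe92d3cce0fc62005febb8c9770672963fd0c896741ecdb328d5141ff74907dc4ec3138366d91549d91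8b0c0ff7403eab0ef0d55d5597cb9c3634ded30306f2ac31e659777e00da43a8c58f8d2c32c03739dc8a213c27dcfb82bbcd831b4ec68252aed5f385729e3915fcd046bd5b071cf0263904ba709ff3442c5b3ae5b88b3999352a7a0bcf5244a22eebe3e468fc5a40586f99cdcea414f878a464c9e871aab96f1557995cf330b663d6a04f6a319d8a3b11f0b4ff680562e16a2e9771c3f8dcc0074fecb990ef464194ca2f84846d3fae9d17995929242e665fd8040f1a3fc73873b19e30c814f43bac36af95749dffc106a428bf91876e105578f0d0a734fc8885ba0d5ebadbc36e9173ad20fbd1e0710d99aa3635d3d4f6148cdb8358f09653f1573c5e60b4a51f6e122037ba693529cb2b6144f3e84f82bb4de23c46490e889ffdf30570b217e6c494c81eadbd2ab6135bfc6d82b2e294670e0e06fc52fd9d13da7216fa1b26877026b13c66a8407a979a4f3e3079739f34d8c4866d1ffa906185555d08f37c23015aeae8c9afcf2c3bc08e3a5b8af13a21c66f87b1bcf10ba3325b52466aa4eb6a51ca26667185f9b206b711ffa1cfc11f4a025b5ba0e5dd0768ded811b8fe02855967dc6a072ff259f4b421fea5a90c0edc0d38de846a3880d6b92cae76678fc7c9149ee3442d9b2ed51449ff118f9cd64e9f5b1506aa09714ca8f0a7e14cedb8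19679cd23f1f90ca76548e49f4aa2c554724b2784f7058dc5d7ba0a9b636ee19880635adccd3d8cdd40f302aec455d4a9ea91deadd5519942fc4008bfbba1cc7a663d97c6927b7494a03826dcf9d4875f48b1c46bcf99a134791dc918ca2da42921e5e2c9de6ee729b0137f5f107a17206dceaa2f1fd688bc04e8b5287d4eae550df4a30e5e5652160f6fd09552d5867bc524356af282d5f1e4390ff252c00a9fd845f2a96fa8b192ec2c1ce85ff20126b7ed39117a74d7494cad116aeb2e8d360b37c9d4562a4db79cf9003bc5ba52dec684641fd2e3a492b7d7c23e7688dc116722329f23b1b24ec51c2f94177ae2627390ca3529bc2507f406bcdbe8af787da9a167c3e2ea102fd9431b5482d4f78491b936ef0217d53c68e0a168d9fbc14a28fd9c76ce52c2b6051ebda6b151172f2807f809e0b0ffe81d0ef837be6f946b806d362cbc28dd508fb668c6d01a5f1f012ecc7e49dc7d8746e20dde9b9c23105bc37c22f2d448be95057d4abc92b09f71883e304ec5e3aa76a63be4b86f6f144b42bad1e7817216c773b5a4292424ef58fa922be3935e4c04bad4add58ac534b99499983e3487fa00ceeee4d5b0936c2d34f3b2eb4a30d13f1fc41b99862f333c36c5cb00bd84f27c5a12572a5beaf5222b9879853cfb24d5d3032e52aeb1703f6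67f44d0e728430b9d963a3d15c892079fdd16a8c622dff6b8c2e436dfd42d1220ddd2139670e434818df046f8a6f74f4f87124ee294dd2c37111df2be680fc4c307f9db93d5410739a658f94832db5ae994ace92d1cfd913a6a38e40ae94a7cd68326f864a5394f88db3aa55969367a846cd4c49dd9173c915d0fdc78f3f202df6320c06fae8a1d9839884e7a6b4af1c72d45398dc3180ae2907acfceb0e53cfe75877dc08af0193f4cf2029b667cf0d862d5ed59320d3883b79072f4d4ca393a2755b117393953398569aa90c77caae92d30d82708de8a5b9d37a7130bbbe39d46ada4a5e5ba12075073b737f06d44f86840f368b5d41ba4a8c889f6417edb1ae4f053d22b74e491653de68338d5b63990bb46b79746262a0ae7de4b1dd8903afe6c173a2427195da56e6ce660089fcba8950f5d70bcc83763e80b623aacd57943ab0c83390ff3421aea3df5996b189935b8986a372e2d0efe22b9940af05ef2d43f290e70bc9f1f17d0fdb4641671262cf2243df65d277e32d7032a2615196b1a689462fb0585fa80f84dd7c7d39356dc06f7b5216259168b9835f565a82946f28868f6e2db2f4d0389ea815bc2368d7969f343a63dd5ec3124372e9b98b1b07cec63305def380a266a7710c6af090cb862acb9ceffc09bf8a1cea1047bf7a0494ed652df75913de62d855056688ad8c7387766b108b7a3426a0f7a2bbecf0f8a020bfe0dfd826e032bb47a6676189e020fcea2ed3c3fb559bc022bfd524340e6a6391957394b62d1fb6062392baf1cd4cb94ae2856bba947720739b10b469dcca037834ecaf41dfd15b3d5e47c222abc4fb850d193d31c46335e9c2d2eb04f6d1f478b9d6734e041f3ce6a8431dde098c2625dfd156a7026d2dd9f70e620697e22ec233477290b835685892e9da03dcf5e69b59b31bc7474ad42471eb8fc21194f2427e984abaa0e335d7d3039b508de7c0fce912a9dd8d359be2e0b333d2c23b44cf1987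
/-- action of `X` -/
def fX : ℕ := 0x920a03d81304a0bc298662845449a1320c40ecab02a0860343e06b0940fc3885c0c64dc0783927055ca08650e0040208190da0849c94328c13c169550805500387408c108819021182108389a24a224938f52462fc8f1201a84845d8001c63bc8a1181fe31c4f11919e23c658a919a3e043909174258860bc2523605e88225a4b07908522e204648e41483e87a10e14c248920f91664047888b23420c7689014a3404b8de1c0348710fc2363946c8e71263a0630a115e3447090612a2e06091f1403986d0ea22630c8789d2222c07e88822c374470b419c2886a8be2443008290823a42c4f8d61562345a8c41e62b4488ca1b62b85909916e2a88808014e3dc758fb1463086e0d31724546609c10c4a05607f1d24286b88a1be3d8588ec2243145b12b1e0250930c821a26c8012a1dc4107f0a81300d01814d2ba0e82886a0900d80b93009c178a493f0d21649d8682981e03786c0ce560a000128e54c1b85a0ba1c82f94803018037058036158030542b207c3c84726c1cc1c04c04e52caf8770a04bc1580329e4b89e9332940c41703c2a41e8a204d0c21d80107e0520301f07d2b40f49a80408a5401995e096044ad8050460889d00e0a40680a0090ae0789e05b0ea0280401d2b80481313e28a080a70320160580e0152621541202c0880d43211c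
/-- action of `Y` -/
def fY : ℕ := 0x2760d00a13029807c0e9520541000807a0ca1d0ab8552ac02c1807c2b2550af95007e1201b932062578988540de138168212920143c0440a000c0f0640580f8148090ae18c890eb22a320488bc158488870d625423c450cf128354510dc2382ac5d0c2106440691141b22608089f1ca39c508c923e278818f41a844c430ff11a2247689514c43c7c9001ae3787f092134000498ea1d23608c10d1502148309015e4205a0fd25630c7409b13a29c5888b1461fc8f12313838c888b514a300788c619a4948b8b018e2585b0ce2404a04011b2323cc7c1291323748e92c1c43b8828b715432c548e424e2fc791072423dc4b88c2483d4810ca11c2ec5c8841a63c0730ec10e304820e0216220628821982907d9261c22e084916140368598b225a4287e0df15c3105f11a1a0344568db17a3bc7b0fa2180e0129582a6528120320d81f80795b02e188330180924e8a38770b01c43e9550ce1c83d85c096148a312e2b40342193726c5001b0160c0574a786d29c1a8250470740f00114d25e04c9c84c2680b82680e0320309a9480b4504041450bc0cc13069050004381420724fc050610841180a84126652ca213e0340883b0350f213c0303d0ac0aca8873022010358230241749c05f0761d4038530384f4288200d04f0ae02f04e50c2d81b0dc16422881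
/-- action of `Z` -/
def fZ : ℕ := 0x1a42244b08b21e2746a0a11364587508c1823cc638d121824c4208019240c510d7226000871291d62185712517e2c0880e018a448788a52384845c8d015a4ac740822322ec1f8082641f0a20760ca0a0a00680461c09b03c0a613c2113706e090978560965582804628e4e82d13d2b65142f14f09a1ec218590721e0020742940540f82e04e050250640fc02c3780f0ae154360692a41489c81300a0ac3381a28655405131032124130010c20440493c01a01c1f0660ee0a80e06a29000c311590a257ca81340c605c1282f0c0040a587a2a20c49d8290ea1c4a982027e0381606e25c0e09a8440e6008090330761000c13e0905049983209c1502086b09806c9c0340b0524ac07905a11cad0222ae0d80605d02c5742e03029c0182d81e0421b41a9542b81f4af03a0e45081e94d08a4c00e94c0be3ec4512a214320501061b64a06190416e21c611221f22f0470f51503607a1241da370938fc19e354718cb0fe4344c095122444840a31ee4607b0aa23e3c86991523c2ac858a722e3f4730af13c450418b8212474548b225a37442920166220838ba236268468a41682b0630941984004f8bd1dc368621261fe3946691a246270478c0202240408d914c3b0738b119c25c810fe1e02d4710ca1f02f86f8991f43a47092c1bc248779051ac2d872146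
/-- parents (2047 for a root) -/
def par : ℕ := 0x2b6568ad1582b0558aa1532a0540a714d298530a5148290518a314528850ca11412804f89f13c2784ec9d1392724e09c13726c4d89a9342684cc999322624c49792e25dffc931242444708d11923045c8a914224448889102204388690b2144288490620a40c811012024007f8fe1fa3ec7d0fa1f23e07b8f51e63c4780f01de3b8768eb1d43a0738e61cc394728e31c4384700df1bc3746e0db1b63686c8d81ac3506a0d31a4340678ce19a334660ca192324640c818e314620c3186308610c017e2f85e8bc1742e45c0b816e2dc5b0b51682d0598b31642c4580af15c2b4560ac1542a4548a814e29c530a5148290518a31402804f89e13c2744e09c1362684c89812e2584a89412824c490911202404788f11c2344688c116228450891102204388710c2144288410620c410821022003f87fffe1f43e0740e21c03806f0d81a4330650c818c310600be16c2d0580ae1582a0530a41442805009c1342604b0941282484708c114228430821002003f07a0ec1d83a0720dc1b0340660c81903005c0b81682d0580ac1582a0520a41402804c0981282504808c118220440841082004007c0f01e03a0740e01b0360680c81802e0580a81402804c090120220440800f01e0380700d01a0300580b0140240400800e0180280400800c01802002007fffff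
/-- generators of the edges -/
def gen : ℕ := 0x200400001000004008010020000000100200000801000004000010020040080100000400001000004008010000040000100200000801000004000010020000080100000000000002000008010020040080100200000801000004008010020000080100000400801000004008010000040080000200400801000004008000020000080100200000801000004000000020040000100200400801000004000010000040000100000400800002000008010020000080000200000801000004000010000040000100000400800002000008010020000080000200400800002000008000000040000100200000801002000008000020000080100000400800002004000010020040080100000400001002000008000020040000100000400001002000008000020040000100200000800002004008000000000080000200400000000000008010020040000100200000001002004008000020040080000200400000002000008000020040000000200400000002004000010000000000100200400000002000008000020040000100200000800002000008000020040000100000400001000004008000020000080100000400800002004008010000040080000200000801000004000010000040080000200400800002000008010000040000100200000000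
/-- first element of the stabiliser -/
def a0 : ℕ := 0x98188308580b6178160290be0e82c8600ae0b82a8540500fc1201809e05c268630921282584803c0ec1e81208609c208110a40542283108c1681c82106802c110370660281e00905e1580d85d05607c2e053084014098510340d41c00805411c0780305a08c0c85009c0081f00e04a1102000103a0500680006c0c81802000e010130060380580800c
/-- second element of the stabiliser -/
def a1 : ℕ := 0xac0a02b82c03e0942c00d04c0582f0320281481802e0a20301584f0a61740e83108a0d00084707c1700180e0aa0680a83b00e02c02850088188030610b40242084906e1640e06006a1280804e07804c198230400442184c0540083181903c0102682407a0602f83907409c1785b08403c168460000841c04b0440d80903f0a805c040290801200d80a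
/-- element for the root 0 -/
def g0 : ℕ := 0xac0a02b82c03e0942c00d04c0582f0320281481802e0a20301584f0a61740e83108a0d00084707c1700180e0aa0680a83b00e02c02850088188030610b40242084906e1640e06006a1280804e07804c198230400442184c0540083181903c0102682407a0602f83907409c1785b08403c168460000841c04b0440d80903f0a805c040290801200d80a
/-- element for the root 1 -/
def g1 : ℕ := 0x180a82d85d0081542c86105a0802185e04c12c16034078114280510560c80e8240800041e80b0440e01d8630c00e41a80e05c0081f85304208c1d01404e03c1781b02c0942604e02a1242e05809e0682d0130be0401801c08411c2901f0520cc268310100180f017050064208110300282300d06c1582b80309004800054094188038370880f802809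
/-- element for the root 127 -/
def g2 : ℕ := 0x621080884308c1802c82706604c1803205a06c2e8010340d0260620a00a80e8450100f4220020b41582a00909c0780a80d0800bc0701c0ae17c1404b00a0f8058190400001583606a00c038250a20dc0a04f02e0b8030530741041304a072120090210700601483c0bc0882380c0581483183f09a0402d80f0141542c0040920582e02304807c3083b
/-- element for the root 302 -/
def g3 : ℕ := 0x800a82d8190b40842382d0900d02583e0600ac0a8230820b8198560921480d80c07a110120200381541f80e03c17c0c04600004c2603b09e02c1382803a0102c03a0620082984505810c1b82f070188030100720941a8050c21640a05406c0240d00109a03c300510641740901704c18c050500b80442b82208401c2701f0940201e02902c1780180d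

end Cfsg.Agent.SP.HSData
end

-- part: SP/Pos/HS
section
/-!
# S5755, positive rows: `HS`, the pair `U₃(5):2 > U₃(5)` (helper22)

The objects are the halves of the 352 partitions of the Higman-Sims graph into two Hoffman-Singleton graphs.
-/

set_option autoImplicit false

namespace Cfsg.Agent.SP.PosHS

open Equiv Cfsg.Agent.SporadicA.PermTab Cfsg.Agent.HN.HS100 Cfsg.Agent.HN.Pres Cfsg.Agent.SP.PM Cfsg.Agent.SP.HSData

/-- a bit -/
def bt (m i : ℕ) : ℕ := Nat.land (Nat.shiftRight m i) 1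

theorem bt_le (m i : ℕ) : bt m i ≤ 1 := Nat.and_le_right

/-- the set of a mask -/
def S (m : ℕ) : Set (Fin 100) := {i | bt m i = 1}

/-- the action on sets -/
def act (g : Perm (Fin 100)) (s : Set (Fin 100)) : Set (Fin 100) := {i | g⁻¹ i ∈ s}

/-- `P` maps `a` onto `b` -/
def same (P a b : ℕ) : Bool := allB (fun i => Nat.beq (bt b (lk P i)) (bt a i)) 100

/-- `P` maps `a` onto the complement of `b` -/
def opp (P a b : ℕ) : Bool := allB (fun i => nbeq (bt b (lk P i)) (bt a i)) 100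

/-- `P` maps `a` onto `b` or its complement -/
def pm (P a b : ℕ) : Bool := forceB a fun a => forceB b fun b => cond (same P a b) true (opp P a b)

theorem act_same {g : Perm (Fin 100)} {P a b : ℕ} (hg : ∀ i, (g i : ℕ) = lk P i) (h : same P a b = true) :
    act g (S a) = S b := by
  ext i
  obtain ⟨i, rfl⟩ := g.surjective i
  have h1 := Nat.eq_of_beq_eq_true ((allB_iff _ _).1 h i i.2)
  change bt a (g⁻¹ (g i) : Fin 100) = 1 ↔ bt b (g i) = 1
  rw [← Perm.mul_apply, inv_mul_cancel, Perm.one_apply, hg, h1]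

theorem act_opp {g : Perm (Fin 100)} {P a b : ℕ} (hg : ∀ i, (g i : ℕ) = lk P i) (h : opp P a b = true) :
    act g (S a) = (S b)ᶜ := by
  ext i
  obtain ⟨i, rfl⟩ := g.surjective i
  have h1 := (nbeq_iff _ _).1 ((allB_iff _ _).1 h i i.2)
  change bt a (g⁻¹ (g i) : Fin 100) = 1 ↔ ¬ bt b (g i) = 1
  rw [← Perm.mul_apply, inv_mul_cancel, Perm.one_apply, hg]
  have h2 := bt_le a i
  have h3 := bt_le b (lk P i)
  omega

theorem act_pm {g : Perm (Fin 100)} {P a b : ℕ} (hg : ∀ i, (g i : ℕ) = lk P i) (h : pm P a b = true) :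
    act g (S a) = S b ∨ act g (S a) = (S b)ᶜ := by
  unfold pm at h
  rw [forceB_eq, forceB_eq] at h
  cases h1 : same P a b with
  | true => exact Or.inl (act_same hg h1)
  | false =>
    rw [h1, cond_false] at h
    exact Or.inr (act_opp hg h)

/-- the `j`-th half -/
def ent (j : ℕ) : ℕ := Nat.land (Nat.shiftRight WW (Nat.mul 100 j)) 0xfffffffffffffffffffffffff

theorem dat : Dat (autG 100 adjA) Q act compl (S (ent 0)) where
  le := Q_le
  one _ := rfl
  mul g h x := by
    ext i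
    change (g * h)⁻¹ i ∈ x ↔ h⁻¹ (g⁻¹ i) ∈ x
    rw [mul_inv_rev, Perm.mul_apply]
  comm _ _ _ := rfl
  nn := compl_compl _
  ne h := by
    have h1 : (0 : Fin 100) ∈ S (ent 0) := by
      change bt (ent 0) 0 = 1
      decide +kernel
    have h2 := h1
    rw [← h] at h2
    exact h2 h1

/-- closure under a generator -/
def clos (P F : ℕ) : Bool := allB (fun j => band (Nat.blt (lk F j) 352) (pm P (ent j) (ent (lk F j)))) 352

theorem cX' : clos tX fX = true := by decide +kernel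
theorem cY' : clos tY fY = true := by decide +kernel
theorem cZ' : clos tZ fZ = true := by decide +kernel

/-- the objects -/
def Obj (y : Set (Fin 100)) : Prop := ∃ j < 352, y = S (ent j) ∨ y = (S (ent j))ᶜ

theorem obj_act {g : Perm (Fin 100)} {P F : ℕ} (hg : ∀ i, (g i : ℕ) = lk P i) (h : clos P F = true)
    (y : Set (Fin 100)) (hy : Obj y) : Obj (act g y) := by
  obtain ⟨j, hj, hy⟩ := hy
  have h1 := (allB_iff _ _).1 h j hj
  rw [band_eq_true] at h1
  refine ⟨lk F j, Nat.blt_eq.mp h1.1, ?_⟩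
  have h2 := act_pm hg h1.2
  rcases hy with rfl | rfl
  · exact h2
  · change (act g (S (ent j)))ᶜ = _ ∨ (act g (S (ent j)))ᶜ = _
    rcases h2 with h2 | h2
    · right
      rw [h2]
    · left
      rw [h2, compl_compl]

theorem obj_all {h : Perm (Fin 100)} (hh : h ∈ autG 100 adjA) : Obj (act h (S (ent 0))) := by
  rw [← Cfsg.Agent.HN.AutBound.range_eq, MonoidHom.range_eq_map, ← closure_gens, MonoidHom.map_closure] at hh
  refine closed_of_gens dat.one dat.mul Obj ?_ hh _ ⟨0, by norm_num, Or.inl rfl⟩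
  rintro _ ⟨g, rfl | rfl | rfl, rfl⟩
  · rw [φ_gx]
    exact obj_act (fun _ => rfl) cX'
  · rw [φ_gy]
    exact obj_act (fun _ => rfl) cY'
  · rw [φ_gz]
    exact obj_act (fun _ => rfl) cZ'

theorem in_a0 : InG Q a0 := word_of (L := [tY, tY, tY]) (mem3 inX inY inW) (by simp) (by decide +kernel)
theorem in_a1 : InG Q a1 :=
  word_of (L := [tX, tW, tX, tY, tX, tY, tY, tX]) (mem3 inX inY inW) (by simp only [_root_.List.cons_subset, _root_.List.mem_cons, _root_.List.not_mem_nil, _root_.or_false, _root_.true_or, _root_.or_true, _root_.List.nil_subset, _root_.List.subset_cons_of_subset, _root_.and_self]) (by decide +kernel)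
theorem in_g0 : InG Q g0 := word_of (L := [a1]) (mem2 in_a0 in_a1) (by simp) (by decide +kernel)
theorem in_g1 : InG Q g1 := word_of (L := [a1, a1, a1]) (mem2 in_a0 in_a1) (by simp) (by decide +kernel)
theorem in_g2 : InG Q g2 :=
  word_of (L := [a0, a1, a1, a1, a1, a1]) (mem2 in_a0 in_a1) (by simp) (by decide +kernel)
theorem in_g3 : InG Q g3 :=
  word_of (L := [a0, a1, a1, a0, a1, a0, a1, a0, a1, a0, a1, a1]) (mem2 in_a0 in_a1) (by simp) (by decide +kernel)

theorem good_root {P j : ℕ} (hP : InG Q P) (h1 : opp P (ent 0) (ent 0) = true) (h2 : pm P (ent j) (ent j) = true) :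
    Good Q act compl (S (ent 0)) (S (ent j)) := by
  obtain ⟨g, hg, hgi⟩ := hP
  exact ⟨g, hg, act_opp hgi h1, act_pm hgi h2⟩

/-- the edge of the forest ending at `j` -/
def edge (j : ℕ) : Bool :=
  cond (Nat.beq j 0 || Nat.beq j 1 || Nat.beq j 127 || Nat.beq j 302) true
    (band (Nat.blt (lk par j) j) (pm (cond (Nat.beq (lk gen j) 0) a0 a1) (ent (lk par j)) (ent j)))

theorem forest : allB edge 352 = true := by decide +kernel

theorem good_ent (j : ℕ) (hj : j < 352) : Good Q act compl (S (ent 0)) (S (ent j)) := by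
  induction j using Nat.strong_induction_on with
  | _ j ih =>
    have h := (allB_iff _ _).1 forest j hj
    unfold edge at h
    cases h1 : (Nat.beq j 0 || Nat.beq j 1 || Nat.beq j 127 || Nat.beq j 302) with
    | true =>
      simp only [Bool.or_eq_true, Nat.beq_eq] at h1
      rcases h1 with ((rfl | rfl) | rfl) | rfl
      · exact good_root in_g0 (by decide +kernel) (by decide +kernel)
      · exact good_root in_g1 (by decide +kernel) (by decide +kernel)
      · exact good_root in_g2 (by decide +kernel) (by decide +kernel)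
      · exact good_root in_g3 (by decide +kernel) (by decide +kernel)
    | false =>
      rw [h1, cond_false, band_eq_true] at h
      have hp : lk par j < j := Nat.blt_eq.mp h.1
      have h2 : ∃ a ∈ Q, (∀ i, (a i : ℕ) = lk (cond (Nat.beq (lk gen j) 0) a0 a1) i) ∧
          (act a (S (ent 0)) = S (ent 0) ∨ act a (S (ent 0)) = (S (ent 0))ᶜ) := by
        cases Nat.beq (lk gen j) 0 with
        | true =>
          obtain ⟨a, ha, hai⟩ := in_a0
          exact ⟨a, ha, hai, act_pm hai (by decide +kernel)⟩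
        | false =>
          obtain ⟨a, ha, hai⟩ := in_a1
          exact ⟨a, ha, hai, act_pm hai (by decide +kernel)⟩
      obtain ⟨a, ha, hai, hst⟩ := h2
      have h3 := dat.good_act ha hst (ih _ hp (by omega))
      rcases act_pm hai h.2 with h4 | h4
      · rwa [h4] at h3
      · rw [h4] at h3
        have h5 := dat.good_neg h3
        rwa [compl_compl] at h5

theorem pairAut_Q : PairAut Q := by
  refine dat.pairAut ?_ Cfsg.Agent.HN.AutHS.exists_perm ?_
  · obtain ⟨g, hg, hgi⟩ := inX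
    have h1 : ∀ i : Fin 100, g i ∈ act g (S (ent 0)) ↔ bt (ent 0) i = 1 := by
      intro i
      change bt (ent 0) (g⁻¹ (g i) : Fin 100) = 1 ↔ _
      rw [← Perm.mul_apply, inv_mul_cancel, Perm.one_apply]
    have h2 : ∀ i : Fin 100, g i ∈ S (ent 0) ↔ bt (ent 0) (lk tX i) = 1 := by
      intro i
      rw [← hgi]
      rfl
    refine ⟨g, hg, fun h => ?_, fun h => ?_⟩
    · have h3 : ∀ i : Fin 100, bt (ent 0) i = 1 ↔ bt (ent 0) (lk tX i) = 1 := fun i => by rw [← h1, h, h2]
      revert h3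
      decide +kernel
    · have h3 : ∀ i : Fin 100, bt (ent 0) i = 1 ↔ ¬ bt (ent 0) (lk tX i) = 1 := fun i => by
        rw [← h1, h, Set.mem_compl_iff, h2]
      revert h3
      decide +kernel
  · intro h hh
    obtain ⟨j, hj, h1 | h1⟩ := obj_all hh
    · rw [h1]
      exact good_ent j hj
    · rw [h1]
      exact dat.good_neg (good_ent j hj)

end Cfsg.Agent.SP.PosHS

namespace Cfsg.Agent.SP

theorem posHS : PairAut Spor.HS := by
  obtain ⟨⟨f⟩, -⟩ := Cfsg.Agent.HN.AutHS.nonempty_Q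
  exact PosHS.pairAut_Q.of_equiv f

end Cfsg.Agent.SP
end

-- part: SP/Pos/B/Net
section
/-! # Orbits of a subgroup closed under an extra element (networks of `Lib.PermNet`) (helper26) -/

set_option autoImplicit false

namespace Cfsg.Agent.SP.PosB

open Cfsg.Agent.Lib.PermNet Cfsg.Agent.Lib.PermNetOrbit

/-- the saturations of the points `ps` are stable under `d` and cover, together with `V`, the set `F` -/
noncomputable def covB (ws : List (List Net)) (d : List Net) (r F : ℕ) (ps : List ℕ) : ℕ → Bool :=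
  List.rec (motive := fun _ => ℕ → Bool) (fun V => Nat.beq V F)
    (fun p _ ih V => seqB (sat ws r (Nat.pow 2 p)) fun U => and (Nat.beq (appWord d U) U) (seqB (Nat.lor V U) ih)) ps

theorem covB_spec {N : ℕ} {K : Subgroup (Equiv.Perm ℕ)} {ws : List (List Net)} (hws : WsOk N ws)
    (hK : ∀ w ∈ ws, wperm w ∈ K) {d : List Net} (hd : WOk N d) {r F : ℕ} :
    ∀ (ps : List ℕ) (V : ℕ), covB ws d r F ps V = true → ∀ y, F.testBit y = true →
      V.testBit y = true ∨ ∃ b ∈ K, b y = wperm d y := by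
  intro ps
  induction ps with
  | nil =>
    intro V h y hy
    have h' : V = F := Nat.eq_of_beq_eq_true h
    exact Or.inl (h' ▸ hy)
  | cons p ps ih =>
    intro V h y hy
    have h' : (seqB (sat ws r (Nat.pow 2 p)) fun U => and (Nat.beq (appWord d U) U)
      (seqB (Nat.lor V U) (covB ws d r F ps))) = true := h
    rw [seqB_eq, seqB_eq, Bool.and_eq_true] at h'
    rcases ih _ h'.2 y hy with h1 | h1
    · have h2 : (V ||| sat ws r (2 ^ p)).testBit y = true := h1
      rw [Nat.testBit_or, Bool.or_eq_true] at h2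
      rcases h2 with h2 | h2
      · exact Or.inl h2
      · right
        have h3 : appWord d (sat ws r (2 ^ p)) = sat ws r (2 ^ p) := Nat.eq_of_beq_eq_true h'.1
        have h4 := testBit_appWord hd (sat ws r (2 ^ p)) y
        rw [h3, h2] at h4
        obtain ⟨g, hg, e⟩ := sat_point_spec hws hK r h2
        obtain ⟨g', hg', e'⟩ := sat_point_spec hws hK r h4.symm
        refine ⟨g' * g⁻¹, K.mul_mem hg' (K.inv_mem hg), ?_⟩
        rw [Equiv.Perm.mul_apply, ← e', ← e]; simp
    · exact Or.inr h1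

theorem covB_full {N : ℕ} {K : Subgroup (Equiv.Perm ℕ)} {ws : List (List Net)} (hws : WsOk N ws)
    (hK : ∀ w ∈ ws, wperm w ∈ K) {d : List Net} (hd : WOk N d) {r n : ℕ} {ps : List ℕ}
    (h : covB ws d r (Nat.sub (Nat.pow 2 n) 1) ps 0 = true) (y : ℕ) (hy : y < n) : ∃ b ∈ K, b y = wperm d y := by
  refine (covB_spec hws hK hd ps 0 h y ?_).resolve_left (by simp)
  change (2 ^ n - 1).testBit y = true
  rw [Nat.testBit_two_pow_sub_one]
  exact decide_eq_true hy

end Cfsg.Agent.SP.PosB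
end

-- part: SP/Pos/Suz
section
/-! # S5755: the row `Suz` (`3·U₄(3):2 > 3·U₄(3)` on 22880 points) (helper26) -/

set_option autoImplicit false
set_option maxRecDepth 100000

namespace Cfsg.Agent.SP.PosB.Suz

open Cfsg Cfsg.Spor Cfsg.Agent.SP Cfsg.Agent.Lib.PermNet Cfsg.Agent.Lib.PermNetOrbit
open Cfsg.Agent.SporadicRecognition.CosetCert
open Cfsg.Agent.SporadicRecognition.SuzU43Data Cfsg.Agent.SporadicRecognition.SuzU43All
open Cfsg.Agent.SporadicRecognition.SuzU43Rel Cfsg.Agent.SporadicRecognition.SuzU43Net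
open Cfsg.Agent.S1681 (HH γ gg hyp closure_top fix cox_one)

/-- words for the generators of `B` -/
noncomputable def ws : List (List Net) := [[aN], [bN], [cN], [fN], [gN], [dN, cN, dN]]

theorem cov : covB ws [dN] 6 (Nat.sub (Nat.pow 2 22880) 1) [0, 1, 10, 67, 7122] 0 = true := by decide +kernel
theorem ca : checkEq 15 [sN, eN, aN] [aN, sN, eN] = true := by decide +kernel
theorem cb : checkEq 15 [sN, eN, bN] [bN, sN, eN] = true := by decide +kernel
theorem cc : checkEq 15 [sN, eN, cN] [cN, sN, eN] = true := by decide +kernel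
theorem cf : checkEq 15 [sN, eN, fN] [fN, sN, eN] = true := by decide +kernel
theorem cg : checkEq 15 [sN, eN, gN] [gN, sN, eN] = true := by decide +kernel
theorem cdcd : checkEq 15 [sN, eN, dN, cN, dN] [dN, cN, dN, sN, eN] = true := by decide +kernel
theorem nd : Nat.beq (ptWord [sN, eN, dN] 1) (ptWord [dN, sN, eN] 1) = false := by decide +kernel

theorem φγ (x : Suz.Gen) : φ (γ x) = (net x).perm := φ_of x

/-- the subgroup of index two -/
def B : Subgroup Suz := Subgroup.closure {γ .a, γ .b, γ .c, γ .f, γ .g, γ .d * γ .c * γ .d}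

theorem HH_eq : HH = Subgroup.closure {γ .a, γ .b, γ .c, γ .d, γ .f, γ .g} := by
  rw [HH, MonoidHom.map_closure]
  simp only [Set.image_insert_eq, Set.image_singleton]
  rfl

theorem memA {x : Suz} (h : x ∈ ({γ .a, γ .b, γ .c, γ .d, γ .f, γ .g} : Set Suz)) : x ∈ HH := by
  rw [HH_eq]; exact Subgroup.subset_closure h

theorem memB {x : Suz} (h : x ∈ ({γ .a, γ .b, γ .c, γ .f, γ .g, γ .d * γ .c * γ .d} : Set Suz)) : x ∈ B :=
  Subgroup.subset_closure h

theorem B_le : B ≤ HH := by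
  rw [B, Subgroup.closure_le]
  rintro x (rfl | rfl | rfl | rfl | rfl | rfl)
  · exact memA (by simp)
  · exact memA (by simp)
  · exact memA (by simp)
  · exact memA (by simp)
  · exact memA (by simp)
  · exact HH.mul_mem (HH.mul_mem (memA (by simp)) (memA (by simp))) (memA (by simp))

theorem okX : WOk (2 ^ 15) [sN, eN] := ((WOk.nil _).cons ok_e).cons ok_s

theorem comm_of {w : List Net} (hw : WOk (2 ^ 15) w) (h : checkEq 15 ([sN, eN] ++ w) (w ++ [sN, eN]) = true) :
    wperm w ∈ Subgroup.centralizer ({wperm [sN, eN]} : Set (Equiv.Perm ℕ)) := by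
  rw [Subgroup.mem_centralizer_singleton_iff, ← wperm_append, ← wperm_append]
  exact (wperm_eq_of_checkEq (okX.append hw) (hw.append okX) h).symm

theorem one_eq (x : Suz.Gen) : φ (γ x) = wperm [net x] := by rw [φγ, wperm_cons, wperm_nil, mul_one]

theorem dcd_eq : φ (γ .d * γ .c * γ .d) = wperm [dN, cN, dN] := by
  rw [map_mul, map_mul, φγ, φγ]
  simp only [wperm_cons, wperm_nil, mul_one, mul_assoc]
  rfl

theorem ok1 (x : Suz.Gen) : WOk (2 ^ 15) [net x] := (WOk.nil _).cons (net_ok x)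

theorem ok3 : WOk (2 ^ 15) [dN, cN, dN] := (((WOk.nil _).cons ok_d).cons ok_c).cons ok_d

theorem d_not_mem : γ .d ∉ B := by
  have h : B ≤ (Subgroup.centralizer ({wperm [sN, eN]} : Set (Equiv.Perm ℕ))).comap φ := by
    rw [B, Subgroup.closure_le]
    rintro x (rfl | rfl | rfl | rfl | rfl | rfl)
    · rw [SetLike.mem_coe, Subgroup.mem_comap, one_eq]; exact comm_of (ok1 _) ca
    · rw [SetLike.mem_coe, Subgroup.mem_comap, one_eq]; exact comm_of (ok1 _) cb
    · rw [SetLike.mem_coe, Subgroup.mem_comap, one_eq]; exact comm_of (ok1 _) cc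
    · rw [SetLike.mem_coe, Subgroup.mem_comap, one_eq]; exact comm_of (ok1 _) cf
    · rw [SetLike.mem_coe, Subgroup.mem_comap, one_eq]; exact comm_of (ok1 _) cg
    · rw [SetLike.mem_coe, Subgroup.mem_comap, dcd_eq]; exact comm_of ok3 cdcd
  intro hd
  have h1 : φ (γ .d) ∈ Subgroup.centralizer ({wperm [sN, eN]} : Set (Equiv.Perm ℕ)) := h hd
  rw [one_eq, Subgroup.mem_centralizer_singleton_iff, ← wperm_append, ← wperm_append] at h1
  have h2 : Nat.beq (ptWord ([sN, eN] ++ [net .d]) 1) (ptWord ([net .d] ++ [sN, eN]) 1) = false := nd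
  rw [ptWord_eq (okX.append (ok1 .d)), ptWord_eq ((ok1 .d).append okX)] at h2
  have h3 : wperm ([sN, eN] ++ [net .d]) 1 = wperm ([net .d] ++ [sN, eN]) 1 := by rw [h1]
  rw [h3, Nat.beq_refl] at h2
  exact Bool.noConfusion h2

theorem conj_comm {x : Suz.Gen} (h : coxLabel Suz.edges .d x = 2) : γ .d * γ x * (γ .d)⁻¹ = γ x := by
  have h1 := cox_one .d x
  rw [h, pow_two] at h1
  rw [S1681.inv_eq]
  have h2 := S1681.sq x
  calc γ .d * γ x * γ .d = γ .d * γ x * γ .d * (γ x * γ x) := by rw [h2, mul_one]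
    _ = γ .d * γ x * (γ .d * γ x) * γ x := by group
    _ = γ x := by rw [h1, one_mul]

theorem normal_d : ∀ b ∈ B, γ .d * b * (γ .d)⁻¹ ∈ B := by
  have h : B ≤ B.comap (MulAut.conj (γ .d)).toMonoidHom := by
    rw [B, Subgroup.closure_le]
    rintro x (rfl | rfl | rfl | rfl | rfl | rfl) <;> change γ .d * _ * (γ .d)⁻¹ ∈ B
    · rw [conj_comm (by decide)]; exact memB (by simp)
    · rw [conj_comm (by decide)]; exact memB (by simp)
    · rw [S1681.inv_eq]; exact memB (by simp only [_root_.Set.mem_insert_iff, _root_.Set.mem_singleton_iff, _root_.or_true])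
    · rw [conj_comm (by decide)]; exact memB (by simp)
    · rw [conj_comm (by decide)]; exact memB (by simp)
    · have h2 := S1681.sq .d
      have : γ .d * (γ .d * γ .c * γ .d) * (γ .d)⁻¹ = γ .c := by
        calc _ = γ .d * γ .d * γ .c := by group
          _ = γ .c := by rw [h2, one_mul]
      rw [this]; exact memB (by simp)
  exact fun b hb => h hb

theorem isPair : IsPair HH B := by
  have h1 := index_le C HH gg hyp part closure_top
  obtain ⟨hi, hst, hlt⟩ := index_eq_of_action HH φ 22880 fix transitive h1.2 h1.1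
  refine isPair_of_perm φ 0 (fun g => (hst g).symm) ?_ B_le
    (mul_mem_of_gen (d := γ .d) (by rw [S1681.sq]; exact B.one_mem) normal_d _ HH_eq ?_)
    (d := γ .d) (memA (by simp)) d_not_mem fun t => ?_
  · intro h
    rw [h, Subgroup.index_top] at hi
    omega
  · rintro x (rfl | rfl | rfl | rfl | rfl | rfl)
    · exact Or.inl (memB (by simp))
    · exact Or.inl (memB (by simp))
    · exact Or.inl (memB (by simp))
    · right; rw [mul_inv_cancel]; exact B.one_mem
    · exact Or.inl (memB (by simp))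
    · exact Or.inl (memB (by simp))
  · have hws : WsOk (2 ^ 15) ws := by
      intro w hw
      simp only [ws, List.mem_cons, List.not_mem_nil, or_false] at hw
      rcases hw with rfl | rfl | rfl | rfl | rfl | rfl
      exacts [ok1 .a, ok1 .b, ok1 .c, ok1 .f, ok1 .g, ok3]
    have hK : ∀ w ∈ ws, wperm w ∈ B.map φ := by
      intro w hw
      simp only [ws, List.mem_cons, List.not_mem_nil, or_false] at hw
      rcases hw with rfl | rfl | rfl | rfl | rfl | rfl
      · exact ⟨_, memB (by simp), one_eq .a⟩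
      · exact ⟨_, memB (by simp), one_eq .b⟩
      · exact ⟨_, memB (by simp), one_eq .c⟩
      · exact ⟨_, memB (by simp), one_eq .f⟩
      · exact ⟨_, memB (by simp), one_eq .g⟩
      · exact ⟨_, memB (by simp only [_root_.Set.mem_insert_iff, _root_.Set.mem_singleton_iff, _root_.or_true]), dcd_eq⟩
    obtain ⟨_, ⟨b, hb, rfl⟩, e⟩ := covB_full hws hK (ok1 .d) cov (φ t 0) (hlt t)
    exact ⟨b, hb, by rw [e, one_eq]⟩

theorem rho_γ (x : Suz.Gen) : KFacts.SuzRho.rho (γ x) = γ (KFacts.SuzRho.sw x) := KFacts.SuzRho.rhoHom_of x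

theorem rho_HH : ∀ a ∈ HH, (1 : Suz)⁻¹ * KFacts.SuzRho.rho a * 1 ∈ HH := by
  have h : HH ≤ HH.comap KFacts.SuzRho.rho.toMonoidHom := by
    conv_lhs => rw [HH_eq]
    rw [Subgroup.closure_le]
    rintro x (rfl | rfl | rfl | rfl | rfl | rfl) <;> change KFacts.SuzRho.rho _ ∈ HH <;> rw [rho_γ] <;>
      exact memA (by simp only [KFacts.SuzRho.sw, _root_.Set.mem_insert_iff, _root_.Set.mem_singleton_iff, _root_.true_or, _root_.or_true])
  intro a ha
  simpa only [_root_.inv_one, _root_.one_mul, _root_.mul_one, _root_.Subgroup.mem_map, _root_.MulEquiv.toMonoidHom_eq_coe, _root_.Subgroup.mem_comap, _root_.MonoidHom.coe_coe] using h ha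

end Cfsg.Agent.SP.PosB.Suz

namespace Cfsg.Agent.SP.PosB

theorem posSuz : PairAut Cfsg.Spor.Suz := by
  have hf : Finite Cfsg.Spor.Suz := Nat.finite_of_card_ne_zero (by rw [Cfsg.Agent.S1694.result.2]; norm_num)
  exact ⟨_, _, IsPair.isPairAut_of_out_two Suz.isPair Cfsg.Agent.S2074.result Cfsg.Agent.H997.OutSuz.rho_outer
    (map_eq_of_le _ 1 Suz.rho_HH)⟩

end Cfsg.Agent.SP.PosB
end

-- part: SP/Pos/C/Signed
section
/-! # S5755: the criterion for signed points -/

set_option autoImplicit false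

namespace Cfsg.Agent.SP.PosC

open Cfsg.Agent.SP

variable {T : Type*} [Group T] {X : Type*} [MulAction T X]

/-- The stabiliser of the pair `{x₀, ν x₀}`. -/
def sgnStab (ν : X → X) (hν : ∀ (g : T) (x : X), g • ν x = ν (g • x)) (hνν : ∀ x, ν (ν x) = x) (x₀ : X) :
    Subgroup T where
  carrier := {g | g • x₀ = x₀ ∨ g • x₀ = ν x₀}
  mul_mem' := by
    rintro a b (ha | ha) (hb | hb)
    · left; rw [mul_smul, hb, ha]
    · right; rw [mul_smul, hb, hν, ha]
    · right; rw [mul_smul, hb, ha]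
    · left; rw [mul_smul, hb, hν, ha, hνν]
  one_mem' := Or.inl (one_smul _ _)
  inv_mem' := by
    rintro a (ha | ha)
    · left; rw [inv_smul_eq_iff, ha]
    · right; rw [inv_smul_eq_iff, hν, ha, hνν]

theorem mem_sgnStab {ν : X → X} {hν : ∀ (g : T) (x : X), g • ν x = ν (g • x)} {hνν : ∀ x, ν (ν x) = x}
    {x₀ : X} {g : T} : g ∈ sgnStab ν hν hνν x₀ ↔ g • x₀ = x₀ ∨ g • x₀ = ν x₀ := Iff.rfl

/-- `T` acts on signed points; if every point of the orbit of `x₀` is fixed up to sign by an element negating `x₀`,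
then the stabilisers of `± x₀` and of `x₀` form a pair. -/
theorem isPair_signed (ν : X → X) (hν : ∀ (g : T) (x : X), g • ν x = ν (g • x)) (hνν : ∀ x, ν (ν x) = x) (x₀ : X)
    (h0 : ν x₀ ≠ x₀) (h1 : ∃ g : T, g • x₀ ≠ x₀ ∧ g • x₀ ≠ ν x₀)
    (h : ∀ g : T, ∃ k : T, k • x₀ = ν x₀ ∧ (k • g • x₀ = g • x₀ ∨ k • g • x₀ = ν (g • x₀))) :
    IsPair (sgnStab ν hν hνν x₀) (MulAction.stabilizer T x₀) := by
  refine isPair_of_index_two ?_ (fun g hg => Or.inl hg) ?_ fun t => ?_
  · obtain ⟨g, hg1, hg2⟩ := h1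
    intro e
    have : g ∈ sgnStab ν hν hνν x₀ := e ▸ Subgroup.mem_top g
    rcases this with h | h
    · exact hg1 h
    · exact hg2 h
  · intro x hx y hy hx' hy'
    have hx2 : x • x₀ = ν x₀ := hx.resolve_left hx'
    have hy2 : y • x₀ = ν x₀ := hy.resolve_left hy'
    rw [MulAction.mem_stabilizer_iff, mul_smul, hy2, hν, hx2, hνν]
  · obtain ⟨k, hk1, hk2⟩ := h t
    refine ⟨k, Or.inr hk1, ?_, fun hk => h0 ?_⟩
    · rw [mem_sgnStab, mul_smul, mul_smul]
      rcases hk2 with hk2 | hk2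
      · left; rw [hk2, inv_smul_smul]
      · right; rw [hk2, hν, inv_smul_smul]
    · rw [← hk1]; exact hk

end Cfsg.Agent.SP.PosC
end

-- part: SP/Pos/B
section
/-! # S5755, the row of the Baby Monster: `2.²E₆(2):2 > 2.²E₆(2)`

In the model of degree 4371 the centraliser of the transposition `t₀` is the stabiliser of `± d₀`; every axis is fixed
up to sign by a conjugate of one transposition negating `d₀`. -/

set_option autoImplicit false

namespace Cfsg.Agent.SP.PosC.Baby

open Cfsg.Agent.Monster.VecEngine Cfsg.Agent.Monster.VecSpace Cfsg.Agent.BabyM.Conc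
  Cfsg.Agent.BabyM.ConcGrp Cfsg.Agent.BabyM.TransInv Cfsg.Agent.BabyM.Inst Cfsg.Agent.BabyM.Model
  Cfsg.Agent.BabyM.InstVec Cfsg.Agent.BabyM.InstZ Cfsg.Agent.BabyM.TransCover Cfsg.Agent.BabyM.TransData
  Cfsg.Agent.BabyM.TransFields

/-- A word negating the base axis. -/
def ty : List Ltr :=
  [.p5, .xi, .p4, .taui, .xii, .p, .Z0, .Z2, .Z4, .Z5, .Z6, .p10, .xi, .tau, .p7, .xii, .p6]

/-- A word fixing the base axis up to sign, and two signs. -/
structure Cert where
  /-- the word -/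
  s : List Ltr
  /-- the word negates the base axis -/
  a : Bool
  /-- `ty` negates the image -/
  b : Bool

/-- The kernel check of one certificate. -/
noncomputable def chk (x : Pl) (r : BabyM.TransCover.Rep) (c : Cert) : Bool :=
  check (c.s.map Ltr.prog) dv0 [] (bif c.a then neg U dv0 else dv0) &&
    check ((winv r.h ++ c.s ++ ty).map Ltr.prog) x ((winv r.h ++ c.s).map Ltr.prog) (bif c.b then neg U x else x)

/-- The certificates in the order of the representatives. -/
noncomputable def chkZip (x : Pl) (rs : List BabyM.TransCover.Rep) (cs : List Cert) : Bool :=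
  Nat.ble rs.length cs.length && (rs.zip cs).all fun p => chk x p.1 p.2

theorem exists_of_zip {x : Pl} {rs : List BabyM.TransCover.Rep} {cs : List Cert} (h : chkZip x rs cs = true) :
    ∀ r ∈ rs, ∃ c, chk x r c = true := by
  unfold chkZip at h
  rw [Bool.and_eq_true, List.all_eq_true] at h
  have hl : rs.length ≤ cs.length := Nat.le_of_ble_eq_true h.1
  intro r hr
  obtain ⟨i, hi, rfl⟩ := List.getElem_of_mem hr
  refine ⟨cs[i]'(by omega), h.2 (rs[i], cs[i]'(by omega)) ?_⟩
  rw [List.mem_iff_getElem]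
  exact ⟨i, by rw [List.length_zip]; omega, by rw [List.getElem_zip]⟩

/-- Certificates for the representatives of table 0. -/
def cs0 : List Cert := [⟨[], false, true⟩,
  ⟨[], false, true⟩,
  ⟨[], false, true⟩,
  ⟨[.p3, .h], true, false⟩]

/-- Certificates for the representatives of table 1. -/
def cs1 : List Cert := [⟨[.p, .h, .p10, .p3, .h], false, true⟩,
  ⟨[.X7, .p3, .h], true, false⟩,
  ⟨[], false, false⟩]

/-- Certificates for the representatives of table 2. -/
def cs2 : List Cert := [⟨[.p3, .h], true, true⟩,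
  ⟨[.tau, .y8], false, true⟩,
  ⟨[.h, .p8, .y4], true, false⟩,
  ⟨[.p, .h, .p10, .y4], true, true⟩]

/-- Certificates for the representatives of table 3. -/
def cs3 : List Cert := [⟨[.X3, .y8], false, false⟩,
  ⟨[.Z3, .p3, .h], true, false⟩,
  ⟨[.tau, .X3], false, false⟩,
  ⟨[.X1, .y8], false, true⟩]

/-- Certificates for the representatives of table 4. -/
def cs4 : List Cert := [⟨[.X7, .tau, .xii], false, true⟩,
  ⟨[.y9, .tau], false, true⟩,
  ⟨[.p, .xi, .p10, .X7], false, true⟩,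
  ⟨[.y8, .tau], false, true⟩,
  ⟨[.p3, .h, .X3, .y9], true, false⟩]

theorem ty_chk : check (ty.map Ltr.prog) dv0 [] (neg U dv0) = true := by decide +kernel

theorem z0 : chkZip dv0 T0.reps cs0 = true := by decide +kernel
theorem z1 : chkZip dv1 T1.reps cs1 = true := by decide +kernel
theorem z2 : chkZip dv2 T2.reps cs2 = true := by decide +kernel
theorem z3 : chkZip dv3 T3.reps cs3 = true := by decide +kernel
theorem z4 : chkZip dv4 T4.reps cs4 = true := by decide +kernel

theorem all_cert (j : Fin 5) : ∀ r ∈ (TT j).reps, ∃ c, chk (dv j) r c = true := by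
  fin_cases j
  · exact exists_of_zip z0
  · exact exists_of_zip z1
  · exact exists_of_zip z2
  · exact exists_of_zip z3
  · exact exists_of_zip z4

theorem ty_neg : W ty M.d₀ = - M.d₀ := by
  have e := W_eq_of_check (v₂ := []) ty_chk
  rw [W_nil, LinearEquiv.coe_one, id, vecU_neg] at e
  rw [d₀_eq', map_smul, e, smul_neg]

/-- One representative. -/
theorem rep_sound {j : Fin 5} {r : BabyM.TransCover.Rep} {c : Cert} (h : chk (dv j) r c = true) :
    ∃ k ∈ M.G, k (W r.h M.d₀) = - W r.h M.d₀ ∧ (k (M.d j) = M.d j ∨ k (M.d j) = - M.d j) := by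
  unfold chk at h
  rw [Bool.and_eq_true] at h
  have e1 := W_eq_of_check (v₂ := []) h.1
  have e2 := W_eq_of_check h.2
  rw [W_nil, LinearEquiv.coe_one, id] at e1
  have h1 : W c.s M.d₀ = M.d₀ ∨ W c.s M.d₀ = - M.d₀ := by
    rw [d₀_eq', map_smul, e1]
    cases c.a
    · exact Or.inl rfl
    · right; rw [cond_true, vecU_neg, smul_neg]
  set w : V ≃ₗ[ℚ] V := W (winv r.h ++ c.s) with hw
  have h2 : W ty (w (M.d j)) = w (M.d j) ∨ W ty (w (M.d j)) = - w (M.d j) := by
    rw [W_append, LinearEquiv.mul_apply, ← hw] at e2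
    rw [M_d_eq, map_smul, map_smul, e2]
    cases c.b
    · exact Or.inl rfl
    · right; rw [cond_true, vecU_neg, map_neg, smul_neg]
  have h3 : w (W r.h M.d₀) = W c.s M.d₀ := by
    rw [hw, W_append, LinearEquiv.mul_apply, W_winv_apply]
  have hwG : w ∈ M.G := W_mem_MG _
  refine ⟨w⁻¹ * W ty * w, M.G.mul_mem (M.G.mul_mem (M.G.inv_mem hwG) (W_mem_MG _)) hwG, ?_, ?_⟩
  · have h4 : W ty (w (W r.h M.d₀)) = - w (W r.h M.d₀) := by
      rw [h3]
      rcases h1 with h1 | h1
      · rw [h1, ty_neg]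
      · rw [h1, map_neg, ty_neg]
    rw [LinearEquiv.mul_apply, LinearEquiv.mul_apply, h4, map_neg, inv_apply_self']
  · rw [LinearEquiv.mul_apply, LinearEquiv.mul_apply]
    rcases h2 with h2 | h2
    · left; rw [h2, inv_apply_self']
    · right; rw [h2, map_neg, inv_apply_self']

/-- Every axis is fixed up to sign by an element negating the base axis. -/
theorem key (g : V ≃ₗ[ℚ] V) (hg : g ∈ M.G) :
    ∃ k ∈ M.G, k M.d₀ = - M.d₀ ∧ (k (g M.d₀) = g M.d₀ ∨ k (g M.d₀) = - g M.d₀) := by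
  have A := BabyM.Instance.all
  obtain ⟨j, h, hh, e⟩ : g M.d₀ ∈ M.D := ((A.G_le hg).2 _).2 A.d₀_mem
  obtain ⟨l, hl, r, hr, hb⟩ := cover j (h⁻¹ M.d₀) ⟨h⁻¹, M.C.inv_mem hh, rfl⟩
  obtain ⟨c, hc⟩ := all_cert j r hr
  obtain ⟨k, hk, hk1, hk2⟩ := rep_sound hc
  have hlG : l ∈ M.G := A.C_le_G hl.1
  have hhG : h ∈ M.G := A.C_le_G hh
  have hld : l (M.d j) = M.d j := stab_d hl
  have hld' : l⁻¹ (M.d j) = M.d j := by
    conv_lhs => rw [← hld]
    exact inv_apply_self' l _
  refine ⟨h * l * k * l⁻¹ * h⁻¹, M.G.mul_mem (M.G.mul_mem (M.G.mul_mem (M.G.mul_mem hhG hlG) hk)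
    (M.G.inv_mem hlG)) (M.G.inv_mem hhG), ?_, ?_⟩
  · have h5 : M.d₀ = h (h⁻¹ M.d₀) := (apply_inv_self' h _).symm
    simp only [LinearEquiv.mul_apply]
    rcases hb with hb | hb
    · conv_rhs => rw [h5]
      rw [hb, inv_apply_self', hk1, map_neg, map_neg]
    · conv_rhs => rw [h5]
      rw [hb, map_neg, map_neg, inv_apply_self', hk1]
      simp only [map_neg]
  · simp only [LinearEquiv.mul_apply]
    rw [e, inv_apply_self', hld']
    rcases hk2 with hk2 | hk2
    · left; rw [hk2, hld]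
    · right; rw [hk2, map_neg, map_neg, hld]

theorem pair_model : Pair M.G := by
  have A := BabyM.Instance.all
  have h7 := A.F_d₀
  refine ⟨_, _, isPair_signed (T := M.G) (X := V) (fun x => - x) (fun g x => map_neg (g : V ≃ₗ[ℚ] V) x)
    (fun x => neg_neg x) M.d₀ ?_ ?_ fun g => ?_⟩
  · intro h
    have h2 : M.F M.d₀ M.d₀ = - M.F M.d₀ M.d₀ := by
      conv_lhs => rw [← h]
      rw [LinearMap.BilinForm.neg_left, h]
    linarith
  · obtain ⟨q, hq, h1, -⟩ := A.d₁_mem'
    have h3 := A.F_d₁_d₀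
    refine ⟨⟨q, A.C_le_G (A.grp.Q_le hq)⟩, fun h => ?_, fun h => ?_⟩
    · have h' : q M.d₀ = M.d₀ := h
      rw [← h1, h', h7] at h3
      norm_num at h3
    · have h' : q M.d₀ = - M.d₀ := h
      rw [← h1, h', LinearMap.BilinForm.neg_left, h7] at h3
      norm_num at h3
  · obtain ⟨k, hk, h1, h2⟩ := key g g.2
    exact ⟨⟨k, hk⟩, h1, h2⟩

end Cfsg.Agent.SP.PosC.Baby

namespace Cfsg.Agent.SP

/-- The Baby Monster has a pair. -/
theorem posB : PairAut Spor.BabyMonster :=
  (PosC.Baby.pair_model.of_equiv BM.KHAll.iso.symm).pairAut CpAut.TwoInner.inner_b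

end Cfsg.Agent.SP
end

private theorem dce_0d9687f28723 : _root_.True := by
  try have : _root_.True := by simp only [_root_.Cfsg.Agent.SP.PosB.Suz.B.eq_1]
  try have : _root_.True := by simp only [_root_.Cfsg.Agent.S1681.HH.eq_1]
  try have : _root_.True := by simp only [_root_.Cfsg.Agent.SP.PosB.Suz.ws.eq_1]
  exact _root_.True.intro
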